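import Groth.Agent.NagataLib.Reduced
import Groth.Agent.NagataCompleteLib.Unramified

/-!
# Completions of finite algebras over local Nagata rings; N-1 from reduced completions
-/

set_option autoImplicit false
set_option backward.isDefEq.respectTransparency false
set_option maxHeartbeats 1000000
universe u
open TensorProduct IsLocalRing

noncomputable section

namespace Groth.Agent.NagataLib

theorem factorPow_evalₐ {C : Type u} [CommRing C] (J : Ideal C) {m n : ℕ} (h : m ≤ n) (x : AdicCompletion J C) :
    Ideal.Quotient.factorPow J h (AdicCompletion.evalₐ J n x) = AdicCompletion.evalₐ J m x := by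
  obtain ⟨c, rfl⟩ := AdicCompletion.mk_surjective J C x
  rw [AdicCompletion.evalₐ_mk, AdicCompletion.evalₐ_mk]
  have hc := c.property h
  rw [SModEq.sub_mem] at hc
  simp only [smul_eq_mul, Ideal.mul_top] at hc
  show Ideal.Quotient.mk (J ^ m) (c.val n) = Ideal.Quotient.mk (J ^ m) (c.val m)
  rw [Ideal.Quotient.eq, ← neg_sub]
  exact neg_mem hc

/-- The completion along `J` embeds in any complete faithfully flat algebra for a smaller ideal of the same radical. -/
theorem exists_injective_of_complete {C T : Type u} [CommRing C] [CommRing T] [Algebra C T]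
    [Module.FaithfullyFlat C T] (J I : Ideal C) (hIJ : I ≤ J) {k : ℕ} (hk : J ^ k ≤ I)
    [IsAdicComplete (I.map (algebraMap C T)) T] :
    ∃ F : AdicCompletion J C →+* T, Function.Injective F := by
  classical
  let IT := I.map (algebraMap C T)
  have hle : ∀ n, J ^ (k * n) ≤ (IT ^ n).comap (algebraMap C T) := fun n => by
    rw [← Ideal.map_le_iff_le_comap, pow_mul, ← Ideal.map_pow]
    exact Ideal.map_mono (Ideal.pow_right_mono hk n)
  let f : (n : ℕ) → AdicCompletion J C →+* T ⧸ IT ^ n := fun n =>
    (Ideal.quotientMap (IT ^ n) (algebraMap C T) (hle n)).comp (AdicCompletion.evalₐ J (k * n)).toRingHom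
  have hf : ∀ {m n : ℕ} (h : m ≤ n), (Ideal.Quotient.factorPow IT h).comp (f n) = f m := fun {m n} h =>
    RingHom.ext fun x => by
      show Ideal.Quotient.factorPow IT h (Ideal.quotientMap (IT ^ n) (algebraMap C T) (hle n) (AdicCompletion.evalₐ J (k * n) x)) =
        Ideal.quotientMap (IT ^ m) (algebraMap C T) (hle m) (AdicCompletion.evalₐ J (k * m) x)
      rw [← factorPow_evalₐ J (Nat.mul_le_mul_left k h) x]
      obtain ⟨c, hc⟩ := Ideal.Quotient.mk_surjective (AdicCompletion.evalₐ J (k * n) x)
      rw [← hc]
      rfl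
  refine ⟨IsAdicComplete.liftRingHom IT f hf, (injective_iff_map_eq_zero _).2 fun x hx => ?_⟩
  refine AdicCompletion.ext_evalₐ fun n => ?_
  have h1 : f n x = 0 := by rw [← IsAdicComplete.mk_liftRingHom IT f hf n x, hx, map_zero]
  obtain ⟨c, hc⟩ := Ideal.Quotient.mk_surjective (AdicCompletion.evalₐ J (k * n) x)
  have h2 : algebraMap C T c ∈ IT ^ n := by
    rw [← Ideal.Quotient.eq_zero_iff_mem, ← h1]
    show _ = Ideal.quotientMap (IT ^ n) (algebraMap C T) (hle n) (AdicCompletion.evalₐ J (k * n) x)
    rw [← hc]
    rfl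
  have h3 : c ∈ I ^ n := by
    rw [← Ideal.comap_map_eq_self_of_faithfullyFlat (B := T) (I ^ n), Ideal.map_pow]
    exact h2
  rcases Nat.eq_zero_or_pos k with hk0 | hk0
  · have htop : J = ⊤ := top_le_iff.1 ((by rw [hk0, pow_zero, Ideal.one_eq_top] at hk; exact hk : ⊤ ≤ I).trans hIJ)
    haveI : Subsingleton (C ⧸ J ^ n) := Ideal.Quotient.subsingleton_iff.2 (by rw [htop, Ideal.top_pow])
    exact Subsingleton.elim _ _
  rw [map_zero, ← factorPow_evalₐ J (Nat.le_mul_of_pos_left n hk0) x, ← hc]
  show Ideal.Quotient.mk (J ^ n) c = 0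
  exact Ideal.Quotient.eq_zero_iff_mem.2 (Ideal.pow_right_mono hIJ n h3)

variable {R : Type u} [CommRing R] [IsLocalRing R]

theorem completion_residual [IsNoetherianRing R] (b : AdicCompletion (maximalIdeal R) R) :
    ∃ a : R, b - algebraMap R (AdicCompletion (maximalIdeal R) R) a ∈
      (maximalIdeal R).map (algebraMap R (AdicCompletion (maximalIdeal R) R)) := by
  obtain ⟨a, ha⟩ := Ideal.Quotient.mk_surjective (AdicCompletion.evalOneₐ (maximalIdeal R) b)
  refine ⟨a, ?_⟩
  rw [← AdicCompletion.ker_evalOneₐ_eq_map (maximalIdeal R) (maximalIdeal R).fg_of_isNoetherianRing, RingHom.mem_ker,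
    map_sub, sub_eq_zero]
  show AdicCompletion.evalOneₐ (maximalIdeal R) b = AdicCompletion.evalOneₐ (maximalIdeal R) (algebraMap R _ a)
  rw [AlgHom.commutes, ← ha]
  rfl

/-- The completion of a reduced finite algebra over a local Nagata ring is reduced, in tensor form. -/
theorem isReduced_tensor_completion (hR : CAlg.IsNagata R) (C : Type u) [CommRing C] [IsDomain C] [Algebra R C]
    [Module.Finite R C] : IsReduced (C ⊗[R] AdicCompletion (maximalIdeal R) R) := by
  haveI := hR.1
  haveI : IsNoetherianRing (AdicCompletion (maximalIdeal R) R) := RegLocal.isNoetherianRing_completion R _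
  haveI := RegLocal.isLocalRing_completion R (maximalIdeal R) (maximalIdeal.isMaximal R).ne_top
  refine isReduced_tensor hR _ ?_ completion_residual C
  rw [← RegLocal.maximalIdeal_completion R (maximalIdeal R) (maximalIdeal.isMaximal R).ne_top]
  exact maximalIdeal_le_jacobson _

theorem isReduced_tensor_completion_of_isReduced (hR : CAlg.IsNagata R) (C : Type u) [CommRing C] [IsReduced C]
    [Algebra R C] [Module.Finite R C] : IsReduced (C ⊗[R] AdicCompletion (maximalIdeal R) R) := by
  classical
  haveI := hR.1
  haveI : IsNoetherianRing C := IsNoetherianRing.of_finite R C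
  let Rh := AdicCompletion (maximalIdeal R) R
  haveI : Finite ↥(minimalPrimes C) := (minimalPrimes.finite_of_isNoetherianRing C).to_subtype
  cases nonempty_fintype ↥(minimalPrimes C)
  have hp : ∀ p : ↥(minimalPrimes C), IsReduced (Rh ⊗[R] (C ⧸ (p : Ideal C))) := fun p => by
    haveI : (p : Ideal C).IsPrime := Ideal.minimalPrimes_isPrime p.2
    haveI : Module.Finite R (C ⧸ (p : Ideal C)) := Module.Finite.trans C _
    haveI := isReduced_tensor_completion hR (C ⧸ (p : Ideal C))
    exact isReduced_of_injective (Algebra.TensorProduct.comm R Rh (C ⧸ (p : Ideal C))).toRingEquiv.toRingHom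
      (AlgEquiv.injective _)
  let δ : C →ₐ[R] ∀ p : ↥(minimalPrimes C), C ⧸ (p : Ideal C) := Pi.algHom R _ fun p => Ideal.Quotient.mkₐ R (p : Ideal C)
  have hδ : Function.Injective δ := (injective_iff_map_eq_zero δ).2 fun c hc => by
    have hmem : c ∈ sInf (⊥ : Ideal C).minimalPrimes := Submodule.mem_sInf.2 fun P hP =>
      Ideal.Quotient.eq_zero_iff_mem.1 (congrFun hc ⟨P, hP⟩)
    rw [Ideal.sInf_minimalPrimes] at hmem
    exact IsReduced.eq_zero c hmem
  let Φ : C ⊗[R] Rh →+* ∀ p : ↥(minimalPrimes C), Rh ⊗[R] (C ⧸ (p : Ideal C)) :=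
    (Algebra.TensorProduct.piRight R R Rh (fun p : ↥(minimalPrimes C) => C ⧸ (p : Ideal C))).toAlgHom.toRingHom.comp
      ((Algebra.TensorProduct.map (AlgHom.id R Rh) δ).toRingHom.comp
        (Algebra.TensorProduct.comm R C Rh).toAlgHom.toRingHom)
  refine isReduced_of_injective Φ ?_
  have h1 : Function.Injective (Algebra.TensorProduct.map (AlgHom.id R Rh) δ) :=
    Module.Flat.lTensor_preserves_injective_linearMap (M := Rh) δ.toLinearMap hδ
  show Function.Injective (⇑(Algebra.TensorProduct.piRight R R Rh (fun p : ↥(minimalPrimes C) => C ⧸ (p : Ideal C))) ∘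
    (⇑(Algebra.TensorProduct.map (AlgHom.id R Rh) δ) ∘ ⇑(Algebra.TensorProduct.comm R C Rh)))
  exact (AlgEquiv.injective _).comp (h1.comp (AlgEquiv.injective _))

/-- The completion of a reduced finite algebra over a local Nagata ring is reduced. -/
theorem isReduced_adicCompletion (hR : CAlg.IsNagata R) (C : Type u) [CommRing C] [IsReduced C] [Algebra R C]
    [Module.Finite R C] (J : Ideal C) (hJ : (maximalIdeal R).map (algebraMap R C) ≤ J) {k : ℕ}
    (hk : J ^ k ≤ (maximalIdeal R).map (algebraMap R C)) : IsReduced (AdicCompletion J C) := by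
  haveI := hR.1
  haveI := isReduced_tensor_completion_of_isReduced hR C
  let Rh := AdicCompletion (maximalIdeal R) R
  let T := C ⊗[R] Rh
  haveI : Module.FaithfullyFlat R Rh := RegLocal.faithfullyFlat_completion R _ (maximalIdeal.isMaximal R).ne_top
  haveI : IsNoetherianRing Rh := RegLocal.isNoetherianRing_completion R _
  haveI : IsAdicComplete ((maximalIdeal R).map (algebraMap R Rh)) Rh :=
    AdicCompletion.isAdicComplete_self _ (maximalIdeal R).fg_of_isNoetherianRing
  letI : Algebra Rh T := Algebra.TensorProduct.rightAlgebra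
  haveI : Module.Finite Rh T := Module.Finite.equiv (Algebra.TensorProduct.commRight R Rh C).toLinearEquiv
  haveI : IsAdicComplete (((maximalIdeal R).map (algebraMap R C)).map (algebraMap C T)) T := by
    have h := FiniteCompleteLib.isAdicComplete_of_finite ((maximalIdeal R).map (algebraMap R Rh)) T
    rw [← IsAdicComplete.map_algebraMap_iff (S := T)] at h
    have e : ((maximalIdeal R).map (algebraMap R Rh)).map (algebraMap Rh T) =
        ((maximalIdeal R).map (algebraMap R C)).map (algebraMap C T) := by
      rw [Ideal.map_map, Ideal.map_map]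
      congr 1
      exact RingHom.ext fun r => ((Algebra.TensorProduct.includeRight : Rh →ₐ[R] T).commutes r).trans
        (IsScalarTower.algebraMap_apply R C T r)
    rw [e] at h
    exact h
  obtain ⟨F, hF⟩ := exists_injective_of_complete (T := T) J _ hJ hk
  exact isReduced_of_injective F hF

/-- An analytically unramified local domain is N-1. -/
theorem isN1_of_isReduced_completion {A : Type u} [CommRing A] [IsDomain A] [IsLocalRing A] [IsNoetherianRing A]
    [IsReduced (AdicCompletion (maximalIdeal A) A)] : CAlg.IsN1 A := by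
  let Ah := AdicCompletion (maximalIdeal A) A
  have hm := (maximalIdeal.isMaximal A).ne_top
  haveI : IsNoetherianRing Ah := RegLocal.isNoetherianRing_completion A _
  haveI := RegLocal.isLocalRing_completion A (maximalIdeal A) hm
  haveI : Module.FaithfullyFlat A Ah := RegLocal.faithfullyFlat_completion A _ hm
  haveI : IsAdicComplete (maximalIdeal Ah) Ah := by
    rw [RegLocal.maximalIdeal_completion A (maximalIdeal A) hm]
    exact AdicCompletion.isAdicComplete_self _ (maximalIdeal A).fg_of_isNoetherianRing
  haveI : IsReduced (Ah ⊗[A] FractionRing A) := by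
    haveI : IsLocalization (Algebra.algebraMapSubmonoid Ah (nonZeroDivisors A)) (Ah ⊗[A] FractionRing A) :=
      IsLocalization.tensor (FractionRing A) (nonZeroDivisors A)
    exact isReduced_localizationPreserves (Algebra.algebraMapSubmonoid Ah (nonZeroDivisors A)) _ inferInstance
  exact NagataCompleteLib.finite_integralClosure_of_reduced A Ah
    (fun q _ _ => NagataCompleteLib.isN2_quot_complete (R := Ah) (Ah ⧸ q) Ideal.Quotient.mk_surjective) (FractionRing A)

end Groth.Agent.NagataLib
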