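import Mathlib
import Groth.Prelude.Def_Found
import Groth.Agent.N2Lib.Basic
import Groth.Agent.NagataCompleteLib.Complete
import Groth.Agent.RegLocal.Completion
import Groth.Agent.S10957

/-!
# Nagata local rings are analytically unramified
-/

set_option autoImplicit false
set_option backward.isDefEq.respectTransparency false
set_option maxHeartbeats 1000000
universe u
open TensorProduct

noncomputable section

namespace Groth.Agent.NagataLib

/-- Reducedness of a flat algebra, from the codimension one points of a principal divisor. -/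
theorem isReduced_of_flat {S B : Type u} [CommRing S] [IsDomain S] [IsNoetherianRing S] [CommRing B]
    [IsNoetherianRing B] [Algebra S B] [Module.Flat S B] (x : S) (hx0 : x ≠ 0)
    (hxJ : algebraMap S B x ∈ (⊥ : Ideal B).jacobson)
    (hp : ∀ (p : Ideal S) [p.IsPrime], p ∈ associatedPrimes S (S ⧸ Ideal.span {x}) →
      IsDiscreteValuationRing (Localization.AtPrime p) ∧ IsReduced (B ⧸ p.map (algebraMap S B))) :
    IsReduced B := by
  classical
  have hreg : ∀ s : S, s ≠ 0 → ∀ b : B, algebraMap S B s * b = 0 → b = 0 := fun s hs b hb => by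
    exact ((IsSMulRegular.of_ne_zero hs).of_flat : IsSMulRegular B (algebraMap S B s)).right_eq_zero_of_smul hb
  -- a nilpotent element is divisible by `x`
  have hdiv : ∀ g : B, IsNilpotent g → ∃ h, g = algebraMap S B x * h := by
    intro g hg
    let Q := S ⧸ Ideal.span {x}
    have hlift : ∀ p : Ideal S, p ∈ associatedPrimes S Q →
        ∃ t ∉ p, algebraMap S B t * g ∈ Ideal.span {algebraMap S B x} := by
      intro p hpass
      haveI hpp : p.IsPrime := IsAssociatedPrime.isPrime hpass
      obtain ⟨hdvr, hred⟩ := hp p hpass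
      let Rp := Localization.AtPrime p
      obtain ⟨w, hw⟩ := IsDiscreteValuationRing.exists_irreducible Rp
      obtain ⟨π, v, rfl⟩ := IsLocalization.exists_mk'_eq p.primeCompl w
      have hv : IsUnit (algebraMap S Rp v) := IsLocalization.map_units Rp v
      have hspan : IsLocalRing.maximalIdeal Rp = Ideal.span {algebraMap S Rp π} := by
        rw [hw.maximalIdeal_eq, ← IsLocalization.mk'_spec Rp π v]
        exact (Ideal.span_singleton_mul_right_unit hv _).symm
      have hπp : π ∈ p := by
        have h := Ideal.mem_span_singleton_self (algebraMap S Rp π)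
        rwa [← hspan, IsLocalization.AtPrime.to_map_mem_maximal_iff Rp p] at h
      have hπ0 : π ≠ 0 := by
        rintro rfl
        exact hw.ne_zero (IsLocalization.mk'_zero v)
      -- clear denominators of generators of `p`
      have hgen : ∀ q ∈ p, ∃ t ∉ p, t * q ∈ Ideal.span {π} := by
        intro q hq
        have h : algebraMap S Rp q ∈ Ideal.map (algebraMap S Rp) (Ideal.span {π}) := by
          rw [Ideal.map_span, Set.image_singleton, ← hspan, IsLocalization.AtPrime.to_map_mem_maximal_iff Rp p]
          exact hq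
        obtain ⟨t, ht, h'⟩ := (IsLocalization.algebraMap_mem_map_algebraMap_iff p.primeCompl Rp _ _).1 h
        exact ⟨t, ht, h'⟩
      obtain ⟨T, hT⟩ := IsNoetherian.noetherian p
      choose t ht ht' using fun q : T => hgen q.1 (hT ▸ Submodule.subset_span q.2)
      let t₀ := ∏ q : T, t q
      have ht₀ : t₀ ∉ p := fun h => by
        obtain ⟨q, -, hq⟩ := (hpp.prod_mem_iff).1 h
        exact ht q hq
      have ht₀' : ∀ q ∈ p, t₀ * q ∈ Ideal.span {π} := by
        intro q hq
        rw [← hT] at hq
        induction hq using Submodule.span_induction with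
        | mem z hz =>
          obtain ⟨c, hc⟩ := Finset.dvd_prod_of_mem t (Finset.mem_univ (⟨z, hz⟩ : T))
          rw [show t₀ * z = c * (t ⟨z, hz⟩ * z) by rw [show t₀ = t ⟨z, hz⟩ * c from hc]; ring]
          exact Ideal.mul_mem_left _ c (ht' ⟨z, hz⟩)
        | zero => rw [mul_zero]; exact zero_mem _
        | add a b _ _ ha hb => rw [mul_add]; exact add_mem ha hb
        | smul c a _ ha => rw [smul_eq_mul, mul_left_comm]; exact Ideal.mul_mem_left _ c ha
      -- nilpotents are divisible by all powers of `π`, away from `p`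
      have hstep : ∀ n : ℕ, ∃ gn, IsNilpotent gn ∧ algebraMap S B (t₀ ^ n) * g = algebraMap S B (π ^ n) * gn := by
        intro n
        induction n with
        | zero => exact ⟨g, hg, by simp⟩
        | succ n ih =>
          obtain ⟨gn, hgn, e⟩ := ih
          have hmem : gn ∈ p.map (algebraMap S B) :=
            Ideal.Quotient.eq_zero_iff_mem.1 ((hgn.map (Ideal.Quotient.mk _)).eq_zero)
          have h2 : algebraMap S B t₀ * gn ∈ Ideal.span {algebraMap S B π} := by
            have := Ideal.mul_mem_mul (Ideal.mem_map_of_mem (algebraMap S B) (Ideal.mem_span_singleton_self t₀)) hmem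
            rw [← Ideal.map_mul] at this
            rw [← Set.image_singleton, ← Ideal.map_span]
            refine Ideal.map_mono (Ideal.mul_le.2 fun a ha b hb => ?_) this
            obtain ⟨c, rfl⟩ := Ideal.mem_span_singleton'.1 ha
            rw [mul_assoc]
            exact Ideal.mul_mem_left _ c (ht₀' b hb)
          obtain ⟨c, hc⟩ := Ideal.mem_span_singleton'.1 h2
          refine ⟨c, ?_, ?_⟩
          · obtain ⟨k, hk⟩ := (Commute.all (algebraMap S B t₀) gn).isNilpotent_mul_left hgn
            rw [← hc, mul_pow, mul_comm] at hk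
            rw [← map_pow] at hk
            exact ⟨k, hreg _ (pow_ne_zero k hπ0) _ hk⟩
          · rw [pow_succ, pow_succ, map_mul, map_mul]
            linear_combination algebraMap S B t₀ * e - algebraMap S B (π ^ n) * hc
      have hxR : algebraMap S Rp x ≠ 0 := fun h => hx0 (IsLocalization.injective Rp
        p.primeCompl_le_nonZeroDivisors (h.trans (map_zero _).symm))
      obtain ⟨n, u, hu⟩ := IsDiscreteValuationRing.eq_unit_mul_pow_irreducible hxR hw
      have hxn : ∃ b ∉ p, ∃ a, b * π ^ n = a * x := by
        have h : algebraMap S Rp (π ^ n) ∈ Ideal.map (algebraMap S Rp) (Ideal.span {x}) := by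
          rw [Ideal.map_span, Set.image_singleton, Ideal.mem_span_singleton, hu, map_pow,
            ← IsLocalization.mk'_spec Rp π v, mul_pow, Units.mul_left_dvd]
          exact dvd_mul_right _ _
        obtain ⟨b, hb, h'⟩ := (IsLocalization.algebraMap_mem_map_algebraMap_iff p.primeCompl Rp _ _).1 h
        obtain ⟨a, ha⟩ := Ideal.mem_span_singleton'.1 h'
        exact ⟨b, hb, a, ha.symm⟩
      obtain ⟨b, hb, a, hab⟩ := hxn
      obtain ⟨gn, -, e⟩ := hstep n
      refine ⟨b * t₀ ^ n, fun h => (hpp.mem_or_mem h).elim hb fun h => ht₀ (hpp.mem_of_pow_mem n h), ?_⟩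
      refine Ideal.mem_span_singleton'.2 ⟨algebraMap S B a * gn, ?_⟩
      have hab' := congrArg (algebraMap S B) hab
      rw [map_mul, map_mul] at hab'
      rw [map_mul]
      linear_combination (-gn) * hab' - algebraMap S B b * e
    -- prime avoidance
    let I : Ideal S := Submodule.comap (LinearMap.toSpanSingleton S B g) ((Ideal.span {algebraMap S B x}).restrictScalars S)
    have hI : ∀ s, s ∈ I ↔ algebraMap S B s * g ∈ Ideal.span {algebraMap S B x} := fun s => by
      show s • g ∈ Ideal.span {algebraMap S B x} ↔ _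
      rw [Algebra.smul_def]
    have hs : ∃ s ∈ I, IsSMulRegular Q s := by
      by_contra hcon
      simp only [not_exists, not_and] at hcon
      have hsub : (I : Set S) ⊆ ⋃ p ∈ associatedPrimes S Q, (p : Set S) := fun s hs => by
        rw [biUnion_associatedPrimes_eq_compl_regular]
        exact hcon s hs
      obtain ⟨p, hpA, hle⟩ := (Ideal.subset_union_prime_finite (associatedPrimes.finite S Q) (f := id) ⊥ ⊥
        fun _ h _ _ => IsAssociatedPrime.isPrime h).1 hsub
      obtain ⟨t, ht, ht'⟩ := hlift p hpA
      exact ht (hle ((hI t).2 ht'))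
    obtain ⟨s, hsI, hsreg⟩ := hs
    have hsB : IsSMulRegular (B ⊗[S] Q) s := IsSMulRegular.lTensor B hsreg
    let e : (B ⊗[S] Q) ≃ₗ[S] B ⧸ (Ideal.span {x} • ⊤ : Submodule S B) :=
      TensorProduct.tensorQuotEquivQuotSMul B (Ideal.span {x})
    have hsB' : IsSMulRegular (B ⧸ (Ideal.span {x} • ⊤ : Submodule S B)) s := (e.isSMulRegular_congr s).1 hsB
    have hiff : ∀ b : B, b ∈ (Ideal.span {x} • ⊤ : Submodule S B) ↔ b ∈ Ideal.span {algebraMap S B x} := fun b => by
      rw [Ideal.smul_top_eq_map, Submodule.restrictScalars_mem, Ideal.map_span, Set.image_singleton]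
    have hz : (Submodule.Quotient.mk g : B ⧸ (Ideal.span {x} • ⊤ : Submodule S B)) = 0 := by
      refine hsB'.right_eq_zero_of_smul ?_
      rw [← Submodule.Quotient.mk_smul, Submodule.Quotient.mk_eq_zero, hiff, Algebra.smul_def]
      exact (hI s).1 hsI
    rw [Submodule.Quotient.mk_eq_zero, hiff] at hz
    obtain ⟨c, rfl⟩ := Ideal.mem_span_singleton'.1 hz
    exact ⟨c, mul_comm _ _⟩
  refine ⟨fun f hf => ?_⟩
  have hall : ∀ n : ℕ, ∃ h, IsNilpotent h ∧ f = algebraMap S B x ^ n * h := by
    intro n
    induction n with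
    | zero => exact ⟨f, hf, by simp⟩
    | succ n ih =>
      obtain ⟨h, hh, rfl⟩ := ih
      obtain ⟨c, rfl⟩ := hdiv h hh
      obtain ⟨k, hk⟩ := hh
      rw [mul_pow, ← map_pow] at hk
      exact ⟨c, ⟨k, hreg _ (pow_ne_zero k hx0) _ hk⟩, by ring⟩
  have hmem : f ∈ ⨅ n : ℕ, Ideal.span {algebraMap S B x} ^ n := by
    refine Submodule.mem_iInf _ |>.2 fun n => ?_
    obtain ⟨h, -, rfl⟩ := hall n
    rw [Ideal.span_singleton_pow]
    exact Ideal.mul_mem_right _ _ (Ideal.mem_span_singleton_self _)
  have h0 := Ideal.iInf_pow_smul_eq_bot_of_le_jacobson (M := B) (Ideal.span {algebraMap S B x})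
    ((Ideal.span_singleton_le_iff_mem _).2 hxJ)
  simp only [smul_eq_mul, Ideal.mul_top] at h0
  rwa [h0] at hmem

/-- The codimension one points of a principal divisor on a normal domain. -/
theorem isDVR_of_associated {S : Type u} [CommRing S] [IsDomain S] [IsNoetherianRing S] [IsIntegrallyClosed S]
    {x : S} (hx : x ≠ 0) (p : Ideal S) [p.IsPrime] (hp : p ∈ associatedPrimes S (S ⧸ Ideal.span {x})) :
    IsDiscreteValuationRing (Localization.AtPrime p) := by
  let Rp := Localization.AtPrime p
  haveI : IsIntegrallyClosed Rp := isIntegrallyClosed_of_isLocalization Rp p.primeCompl p.primeCompl_le_nonZeroDivisors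
  refine S10957.result Rp (algebraMap S Rp x) (fun h => hx (IsLocalization.injective Rp
    p.primeCompl_le_nonZeroDivisors (h.trans (map_zero _).symm))) ?_
  obtain ⟨-, y, hy⟩ := isAssociatedPrime_iff.1 hp
  obtain ⟨y, rfl⟩ := Ideal.Quotient.mk_surjective y
  have hmem : ∀ s : S, s ∈ p ↔ s * y ∈ Ideal.span {x} := fun s => by
    rw [hy, Submodule.mem_colon_singleton, Submodule.mem_bot, ← Ideal.Quotient.eq_zero_iff_mem]
    rfl
  refine isAssociatedPrime_iff.2 ⟨(IsLocalRing.maximalIdeal.isMaximal Rp).isPrime,
    Ideal.Quotient.mk _ (algebraMap S Rp y), Ideal.ext fun z => ?_⟩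
  obtain ⟨s, t, rfl⟩ := IsLocalization.exists_mk'_eq p.primeCompl z
  rw [IsLocalization.AtPrime.mk'_mem_maximal_iff Rp p, Submodule.mem_colon_singleton, Submodule.mem_bot,
    hmem, Algebra.smul_def, Ideal.Quotient.algebraMap_eq, ← map_mul, Ideal.Quotient.eq_zero_iff_mem,
    show Ideal.span {algebraMap S Rp x} = (Ideal.span {x}).map (algebraMap S Rp) by
      rw [Ideal.map_span, Set.image_singleton]]
  constructor
  · intro h
    have h1 : IsLocalization.mk' Rp s t * algebraMap S Rp y = IsLocalization.mk' Rp (s * y) t := by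
      rw [mul_comm, IsLocalization.mul_mk'_eq_mk'_of_mul, mul_comm y]
    rw [h1, IsLocalization.mk'_mem_map_algebraMap_iff]
    exact ⟨1, one_mem _, by rwa [one_mul]⟩
  · intro h
    rw [mul_comm, IsLocalization.mul_mk'_eq_mk'_of_mul, IsLocalization.mk'_mem_map_algebraMap_iff] at h
    obtain ⟨c, hc, h⟩ := h
    have h2 : c * s ∈ p := by
      rw [hmem, mul_assoc, mul_comm s y]
      exact h
    exact (hmem s).1 (((inferInstance : p.IsPrime).mem_or_mem h2).resolve_left hc)

theorem mem_jacobson_of_finite {B T : Type u} [CommRing B] [CommRing T] (f : B →+* T) (hf : f.Finite)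
    {b : B} (hb : b ∈ (⊥ : Ideal B).jacobson) : f b ∈ (⊥ : Ideal T).jacobson := by
  letI := f.toAlgebra
  haveI : Module.Finite B T := hf
  rw [Ideal.jacobson, Submodule.mem_sInf]
  rintro (M : Ideal T) ⟨-, hM⟩
  haveI := hM
  haveI : (M.comap (algebraMap B T)).IsMaximal := Ideal.isMaximal_comap_of_isIntegral_of_isMaximal M
  exact Submodule.mem_sInf.1 hb (M.comap (algebraMap B T)) ⟨bot_le, inferInstance⟩

/-- The inductive step: a normal domain. -/
theorem isReduced_tensor_of_normal {R : Type u} [CommRing R] (B D : Type u) [CommRing B] [IsNoetherianRing B]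
    [Algebra R B] [Module.Flat R B] [CommRing D] [IsDomain D] [IsNoetherianRing D] [IsIntegrallyClosed D]
    [Algebra R D] [Module.Finite R D] (a : R) (ha : algebraMap R D a ≠ 0)
    (hJ : algebraMap R B a ∈ (⊥ : Ideal B).jacobson)
    (hp : ∀ (p : Ideal D) [p.IsPrime], algebraMap R D a ∈ p → IsReduced ((D ⧸ p) ⊗[R] B)) :
    IsReduced (D ⊗[R] B) := by
  let T := D ⊗[R] B
  have hfin : (Algebra.TensorProduct.includeRight : B →ₐ[R] T).toRingHom.Finite := by
    have h1 : (algebraMap B (B ⊗[R] D)).Finite := RingHom.finite_algebraMap.2 inferInstance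
    have h2 : (Algebra.TensorProduct.comm R B D).toAlgHom.toRingHom.Finite :=
      RingHom.Finite.of_surjective _ (Algebra.TensorProduct.comm R B D).surjective
    have e : (Algebra.TensorProduct.includeRight : B →ₐ[R] T).toRingHom =
        (Algebra.TensorProduct.comm R B D).toAlgHom.toRingHom.comp (algebraMap B (B ⊗[R] D)) :=
      RingHom.ext fun b => rfl
    rw [e]
    exact h2.comp h1
  haveI : IsNoetherianRing T := by
    letI := (Algebra.TensorProduct.includeRight : B →ₐ[R] T).toRingHom.toAlgebra
    haveI : Module.Finite B T := hfin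
    exact IsNoetherianRing.of_finite B T
  have hxJ : algebraMap D T (algebraMap R D a) ∈ (⊥ : Ideal T).jacobson := by
    have h2 : algebraMap D T (algebraMap R D a) = (Algebra.TensorProduct.includeRight : B →ₐ[R] T) (algebraMap R B a) := by
      rw [AlgHom.commutes, ← IsScalarTower.algebraMap_apply]
    rw [h2]
    exact mem_jacobson_of_finite _ hfin hJ
  refine isReduced_of_flat (algebraMap R D a) ha hxJ fun p _ hpa => ⟨isDVR_of_associated ha p hpa, ?_⟩
  have hxp : algebraMap R D a ∈ p := by
    have h := hpa.annihilator_le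
    rw [Submodule.annihilator_top, Ideal.annihilator_quotient] at h
    exact h (Ideal.mem_span_singleton_self _)
  haveI := hp p hxp
  let ψ : T →ₐ[R] (D ⧸ p) ⊗[R] B := Algebra.TensorProduct.map (Ideal.Quotient.mkₐ R p) (AlgHom.id R B)
  have hker : RingHom.ker ψ = p.map (algebraMap D T) := by
    rw [Algebra.TensorProduct.rTensor_ker (Ideal.Quotient.mkₐ R p) (Ideal.Quotient.mkₐ_surjective R p),
      show RingHom.ker (Ideal.Quotient.mkₐ R p) = p from Ideal.mk_ker]
    rfl
  refine (Ideal.isRadical_iff_quotient_reduced _).1 fun z hz => ?_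
  obtain ⟨n, hn⟩ := hz
  have h1 : ψ (z ^ n) = 0 := by
    have : z ^ n ∈ RingHom.ker ψ := by rw [hker]; exact hn
    exact this
  have h2 : IsNilpotent (ψ z) := ⟨n, by rw [← map_pow]; exact h1⟩
  have h3 : z ∈ RingHom.ker ψ := h2.eq_zero
  rw [hker] at h3
  exact h3

variable {R : Type u} [CommRing R] [IsLocalRing R]

/-- The completion of a finite domain over a local Nagata ring is reduced, in tensor form. -/
theorem isReduced_tensor (hR : CAlg.IsNagata R) (B : Type u) [CommRing B] [IsNoetherianRing B] [Algebra R B]
    [Module.Flat R B] (hB : (IsLocalRing.maximalIdeal R).map (algebraMap R B) ≤ (⊥ : Ideal B).jacobson)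
    (hres : ∀ b : B, ∃ a : R, b - algebraMap R B a ∈ (IsLocalRing.maximalIdeal R).map (algebraMap R B))
    (C : Type u) [CommRing C] [IsDomain C] [Algebra R C] [Module.Finite R C] : IsReduced (C ⊗[R] B) := by
  haveI := hR.1
  suffices h : ∀ (q : Ideal R) (C : Type u) [CommRing C] [IsDomain C] [Algebra R C] [Module.Finite R C],
      RingHom.ker (algebraMap R C) = q → IsReduced (C ⊗[R] B) from h _ C rfl
  intro q
  induction q using WellFoundedGT.induction with
  | _ q ih =>
  intro C _ _ _ _ hq
  classical
  haveI hqp : q.IsPrime := hq ▸ RingHom.ker_isPrime _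
  let R' := R ⧸ q
  letI : Algebra R' C := (Ideal.Quotient.lift q (algebraMap R C) fun a ha => by rwa [← hq] at ha).toAlgebra
  haveI : IsScalarTower R R' C := IsScalarTower.of_algebraMap_eq fun _ => rfl
  haveI : Module.Finite R' C := Module.Finite.of_restrictScalars_finite R R' C
  have hinjC : Function.Injective (algebraMap R' C) := (injective_iff_map_eq_zero _).2 fun a ha => by
    obtain ⟨a, rfl⟩ := Ideal.Quotient.mk_surjective a
    rw [Ideal.Quotient.eq_zero_iff_mem, ← hq]
    exact ha
  haveI : IsNoetherianRing C := IsNoetherianRing.of_finite R C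
  have hN1 : CAlg.IsN1 C :=
    N2Lib.finite_of_isN2 (NagataCompleteLib.isN2_of_finite hinjC (hR.2 q)) (FractionRing C) (FractionRing C)
  let C' := integralClosure C (FractionRing C)
  haveI : Module.Finite C C' := hN1
  haveI : Module.Finite R C' := Module.Finite.trans C C'
  haveI : IsNoetherianRing C' := IsNoetherianRing.of_finite R C'
  haveI : IsFractionRing C' (FractionRing C) := integralClosure.isFractionRing_of_finite_extension (FractionRing C) (FractionRing C)
  haveI : IsIntegrallyClosed C' := integralClosure.isIntegrallyClosedOfFiniteExtension (FractionRing C)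
  have hinj' : Function.Injective (algebraMap C C') := fun a b h => IsFractionRing.injective C (FractionRing C)
    (congrArg Subtype.val h)
  have hq' : RingHom.ker (algebraMap R C') = q := by
    rw [← hq, IsScalarTower.algebraMap_eq R C C', RingHom.ker_comp_of_injective _ hinj']
  suffices h : IsReduced (C' ⊗[R] B) by
    refine isReduced_of_injective (Algebra.TensorProduct.map (IsScalarTower.toAlgHom R C C') (AlgHom.id R B)) ?_
    exact Module.Flat.rTensor_preserves_injective_linearMap (IsScalarTower.toAlgHom R C C').toLinearMap hinj'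
  by_cases hm : IsLocalRing.maximalIdeal R ≤ q
  · -- a finite field extension of the residue field
    haveI : q.IsMaximal := (IsLocalRing.maximalIdeal.isMaximal R).eq_of_le hqp.ne_top hm ▸ IsLocalRing.maximalIdeal.isMaximal R
    letI : Field R' := Ideal.Quotient.field q
    letI : Algebra R' C' := ((algebraMap C C').comp (algebraMap R' C)).toAlgebra
    haveI : IsScalarTower R R' C' := IsScalarTower.of_algebraMap_eq fun a => by
      show _ = algebraMap C C' (algebraMap R' C (algebraMap R R' a))
      rw [← IsScalarTower.algebraMap_apply R R' C, ← IsScalarTower.algebraMap_apply R C C']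
    haveI : Module.Finite R' C' := Module.Finite.of_restrictScalars_finite R R' C'
    haveI : Algebra.IsIntegral R' C' := Algebra.IsIntegral.of_finite R' C'
    have hF : IsField C' := isField_of_isIntegral_of_isField' (Field.toIsField R')
    letI : Field C' := hF.toField
    have hsurj : Function.Surjective (Algebra.TensorProduct.includeLeft : C' →ₐ[R] C' ⊗[R] B) := by
      intro z
      induction z using TensorProduct.induction_on with
      | zero => exact ⟨0, map_zero _⟩
      | add a b ha hb =>
        obtain ⟨a', rfl⟩ := ha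
        obtain ⟨b', rfl⟩ := hb
        exact ⟨a' + b', map_add _ _ _⟩
      | tmul c b =>
        obtain ⟨a, ha⟩ := hres b
        refine ⟨a • c, ?_⟩
        show (a • c) ⊗ₜ[R] (1 : B) = c ⊗ₜ b
        have hz : c ⊗ₜ[R] (b - algebraMap R B a) = 0 := by
          generalize b - algebraMap R B a = d at ha
          induction ha using Submodule.span_induction generalizing c with
          | mem d hd =>
            obtain ⟨r, hr, rfl⟩ := hd
            rw [Algebra.algebraMap_eq_smul_one, ← TensorProduct.smul_tmul, Algebra.smul_def]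
            rw [show algebraMap R C' r = 0 from RingHom.mem_ker.1 (hq'.symm ▸ hm hr), zero_mul, zero_tmul]
          | zero => rw [tmul_zero]
          | add x y _ _ hx hy => rw [tmul_add, hx, hy, add_zero]
          | smul e x _ hx =>
            rw [show c ⊗ₜ[R] (e • x) = ((1 : C') ⊗ₜ[R] e) * (c ⊗ₜ x) by
              rw [Algebra.TensorProduct.tmul_mul_tmul, one_mul, smul_eq_mul], hx c, mul_zero]
        rw [tmul_sub, sub_eq_zero] at hz
        rw [hz, TensorProduct.smul_tmul, Algebra.smul_def, mul_one]
    by_cases hn : Nontrivial (C' ⊗[R] B)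
    · exact isReduced_of_injective (RingEquiv.ofBijective (Algebra.TensorProduct.includeLeft : C' →ₐ[R] C' ⊗[R] B).toRingHom
        ⟨RingHom.injective _, hsurj⟩).symm.toRingHom (RingEquiv.injective _)
    · rw [not_nontrivial_iff_subsingleton] at hn
      exact ⟨fun x _ => Subsingleton.elim x 0⟩
  · obtain ⟨a, ham, haq⟩ := Set.not_subset.1 hm
    have hx0 : algebraMap R C' a ≠ 0 := fun h => haq (hq' ▸ RingHom.mem_ker.2 h)
    refine isReduced_tensor_of_normal B C' a hx0 (hB (Ideal.mem_map_of_mem _ ham)) fun p _ hp => ?_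
    haveI : Module.Finite R (C' ⧸ p) := Module.Finite.trans C' _
    have hlt : q < RingHom.ker (algebraMap R (C' ⧸ p)) := by
      refine lt_of_le_of_ne ?_ fun e => haq (e ▸ RingHom.mem_ker.2 ?_)
      · intro r hr
        rw [← hq'] at hr
        rw [RingHom.mem_ker, IsScalarTower.algebraMap_apply R C' (C' ⧸ p), RingHom.mem_ker.1 hr, map_zero]
      · rw [IsScalarTower.algebraMap_apply R C' (C' ⧸ p)]
        exact Ideal.Quotient.eq_zero_iff_mem.2 hp
    exact ih _ hlt (C' ⧸ p) rfl

end Groth.Agent.NagataLib
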