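import Mathlib
import Groth.Prelude.Def_Found
import Groth.Agent.N2Lib.Basic
import Groth.Agent.RegLocLib.NorLocus

/-!
# The N-1 criterion: open normal locus and local finiteness
-/

set_option autoImplicit false
set_option backward.isDefEq.respectTransparency false
set_option maxHeartbeats 1000000
universe u

noncomputable section

namespace Groth.Agent.NagataLib

/-- Local finiteness of the integral closure at a prime. -/
def LocFin (S K : Type u) [CommRing S] [CommRing K] [Algebra S K] (m : Ideal S) : Prop :=
  ∃ M : Submodule S K, M.FG ∧ ∀ y : K, IsIntegral S y → ∃ t ∉ m, t • y ∈ M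

/-- Finiteness of the integral closure, from generic normality and local finiteness. -/
theorem finite_of_locFin {S K : Type u} [CommRing S] [IsDomain S] [IsNoetherianRing S] [Field K] [Algebra S K]
    [IsFractionRing S K] {f : S} (hf : f ≠ 0)
    (hnor : ∀ y : K, IsIntegral S y → ∃ (n : ℕ) (d : S), algebraMap S K (f ^ n) * y = algebraMap S K d)
    (hloc : ∀ m : Ideal S, m.IsMaximal → LocFin S K m) : Module.Finite S (integralClosure S K) := by
  classical
  let A := integralClosure S K
  have h1 : ∀ m : MaximalSpectrum S, ∃ (G : Finset K) (e : S), ↑G ⊆ (A : Set K) ∧ e ∉ m.asIdeal ∧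
      ∀ q : Ideal S, q.IsPrime → e ∉ q → ∀ y ∈ A, ∃ t ∉ q, t • y ∈ Algebra.adjoin S (G : Set K) := by
    intro m
    obtain ⟨M, hM, hM'⟩ := hloc m.asIdeal m.isMaximal
    haveI : IsNoetherian S M := isNoetherian_of_fg_of_noetherian M hM
    obtain ⟨G, hG⟩ : (M ⊓ Subalgebra.toSubmodule A).FG :=
      isNoetherian_submodule.1 (inferInstance : IsNoetherian S M) _ inf_le_left
    have hGA : ↑G ⊆ (A : Set K) := fun g hg =>
      (show (M ⊓ Subalgebra.toSubmodule A) ≤ Subalgebra.toSubmodule A from inf_le_right)
        (hG ▸ Submodule.subset_span hg)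
    let C := Algebra.adjoin S (G : Set K)
    haveI : Module.Finite S C := Module.Finite.iff_fg.2 (fg_adjoin_of_finite G.finite_toSet fun g hg => hGA hg)
    have hCm : ∀ y ∈ A, ∃ t ∉ m.asIdeal, t • y ∈ C := fun y hy => by
      obtain ⟨t, ht, hty⟩ := hM' y hy
      refine ⟨t, ht, ?_⟩
      have h : t • y ∈ M ⊓ Subalgebra.toSubmodule A := ⟨hty, A.smul_mem hy t⟩
      rw [← hG] at h
      exact Algebra.span_le_adjoin S _ h
    haveI : IsNoetherianRing C := IsNoetherianRing.of_finite S C
    haveI : IsFractionRing C K := IsFractionRing.of_field C K fun z => by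
      obtain ⟨a, b, -, rfl⟩ := IsFractionRing.div_surjective S z
      exact ⟨algebraMap S C a, algebraMap S C b, rfl⟩
    let f' : C := algebraMap S C f
    have hf' : f' ≠ 0 := fun h => hf (IsFractionRing.injective S K (by
      rw [map_zero, IsScalarTower.algebraMap_apply S C K, show algebraMap S C f = 0 from h, map_zero]))
    have hint : ∀ y : K, IsIntegral C y → y ∈ A := fun y hy => by
      haveI : Algebra.IsIntegral S C := Algebra.IsIntegral.of_finite S C
      exact isIntegral_trans y hy
    have hD : ∀ Q : PrimeSpectrum C, f' ∉ Q.asIdeal → Q ∈ EGA4.norLocus C := fun Q hQ => by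
      rw [RegLocLib.mem_norLocus_iff_denominators (K := K)]
      intro y hy
      obtain ⟨n, d, hd⟩ := hnor y (hint y hy)
      exact ⟨f' ^ n, fun h => hQ (Q.2.mem_of_pow_mem n h), algebraMap S C d, by
        rw [map_pow, ← IsScalarTower.algebraMap_apply, ← IsScalarTower.algebraMap_apply, ← map_pow]; exact hd⟩
    let Bd : Set (PrimeSpectrum C) :=
      {P | P.asIdeal ∈ associatedPrimes C (C ⧸ Ideal.span {f'}) ∧ P ∉ EGA4.norLocus C}
    haveI : Finite Bd := by
      have h := associatedPrimes.finite C (C ⧸ Ideal.span {f'})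
      have h' : Bd ⊆ PrimeSpectrum.asIdeal ⁻¹' associatedPrimes C (C ⧸ Ideal.span {f'}) := fun P hP => hP.1
      exact ((h.preimage (fun a _ b _ hab => PrimeSpectrum.ext hab)).subset h').to_subtype
    cases nonempty_fintype Bd
    have hbad : ∀ P : Bd, ∃ e ∈ (P.1.asIdeal).comap (algebraMap S C), e ∉ m.asIdeal := fun P => by
      by_contra hcon
      simp only [not_exists, not_and, not_not] at hcon
      refine P.2.2 ((RegLocLib.mem_norLocus_iff_denominators (K := K) P.1).2 fun y hy => ?_)
      obtain ⟨t, ht, hty⟩ := hCm y (hint y hy)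
      exact ⟨algebraMap S C t, fun h => ht (hcon t h), ⟨_, hty⟩, by
        rw [← IsScalarTower.algebraMap_apply]; exact (Algebra.smul_def t y).symm⟩
    choose e he he' using hbad
    refine ⟨G, ∏ P, e P, hGA, fun h => ?_, fun q hq heq y hy => ?_⟩
    · obtain ⟨P, -, hP⟩ := (m.isMaximal.isPrime.prod_mem_iff).1 h
      exact he' P hP
    by_contra hcon
    simp only [not_exists, not_and] at hcon
    let D : Ideal C := Submodule.comap (LinearMap.toSpanSingleton C K y) (LinearMap.range (Algebra.linearMap C K))
    have hDmem : ∀ c : C, c ∈ D ↔ ∃ d, algebraMap C K c * y = algebraMap C K d := fun c => by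
      constructor
      · rintro ⟨d, hd⟩
        exact ⟨d, hd.symm⟩
      · rintro ⟨d, hd⟩
        exact ⟨d, hd.symm⟩
    have hle : D.comap (algebraMap S C) ≤ q := fun t ht => by
      by_contra htq
      obtain ⟨d, hd⟩ := (hDmem _).1 ht
      refine hcon t htq ?_
      rw [← IsScalarTower.algebraMap_apply] at hd
      rw [Algebra.smul_def, hd]
      exact d.2
    haveI := hq
    haveI : Algebra.IsIntegral S C := Algebra.IsIntegral.of_finite S C
    obtain ⟨Q, hDQ, hQp, hQq⟩ := Ideal.exists_ideal_over_prime_of_isIntegral q D hle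
    have hQnor : (⟨Q, hQp⟩ : PrimeSpectrum C) ∈ EGA4.norLocus C := by
      refine RegLocLib.mem_norLocus_of_associated hf' hD ⟨Q, hQp⟩ fun P hP hPQ => ?_
      by_contra hPn
      refine heq ?_
      obtain ⟨c, hc⟩ := Finset.dvd_prod_of_mem e (Finset.mem_univ (⟨P, hP, hPn⟩ : Bd))
      rw [hc]
      refine q.mul_mem_right _ ?_
      rw [← hQq]
      exact hPQ (he ⟨P, hP, hPn⟩)
    obtain ⟨c, hcQ, d, hd⟩ := (RegLocLib.mem_norLocus_iff_denominators (K := K) _).1 hQnor y hy.tower_top
    exact hcQ (hDQ ((hDmem c).2 ⟨d, hd⟩))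
  choose G e hGA he hq using h1
  have htop : Ideal.span (Set.range e) = ⊤ := by
    by_contra hne
    obtain ⟨m, hm, hle⟩ := Ideal.exists_le_maximal _ hne
    exact he ⟨m, hm⟩ (hle (Ideal.subset_span ⟨⟨m, hm⟩, rfl⟩))
  have h1mem : (1 : S) ∈ Ideal.span (Set.range e) := htop ▸ Submodule.mem_top
  obtain ⟨T, hT, hT1⟩ := Submodule.mem_span_finite_of_mem_span h1mem
  choose μ hμ using fun x : T => hT x.2
  let GG : Finset K := Finset.univ.biUnion fun x : T => G (μ x)
  have hGG : ↑GG ⊆ (A : Set K) := fun g hg => by
    obtain ⟨x, -, hx⟩ := Finset.mem_biUnion.1 hg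
    exact hGA _ hx
  let C := Algebra.adjoin S (GG : Set K)
  haveI : Module.Finite S C := Module.Finite.iff_fg.2 (fg_adjoin_of_finite GG.finite_toSet fun g hg => hGG hg)
  have hAC : A = C := by
    refine le_antisymm (fun y hy => ?_) (Algebra.adjoin_le hGG)
    let I : Ideal S := (Subalgebra.toSubmodule C).comap (LinearMap.toSpanSingleton S K y)
    by_contra hyC
    have hI : I ≠ ⊤ := fun h => hyC (by
      have h1 : (1 : S) ∈ I := h ▸ Submodule.mem_top
      simpa [I] using h1)
    obtain ⟨q, hqm, hle⟩ := Ideal.exists_le_maximal I hI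
    have hex : ∃ x : T, e (μ x) ∉ q := by
      by_contra hcon
      simp only [not_exists, not_not] at hcon
      refine hqm.ne_top ((Ideal.eq_top_iff_one _).2 ?_)
      refine (Submodule.span_le.2 ?_ : Ideal.span (T : Set S) ≤ q) hT1
      intro x hx
      show x ∈ q
      rw [← show e (μ ⟨x, hx⟩) = x from hμ ⟨x, hx⟩]
      exact hcon ⟨x, hx⟩
    obtain ⟨x, hx⟩ := hex
    obtain ⟨t, ht, hty⟩ := hq (μ x) q hqm.isPrime hx y hy
    refine ht (hle ?_)
    exact Algebra.adjoin_mono (fun g hg => Finset.mem_biUnion.2 ⟨x, Finset.mem_univ _, hg⟩) hty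
  show Module.Finite S A
  rw [hAC]
  infer_instance

/-- Local finiteness from finiteness of the integral closure over a localization. -/
theorem locFin_of_finite {S K : Type u} [CommRing S] [CommRing K] [Algebra S K] (m : Ideal S)
    (M : Submonoid S) (hM : ∀ t ∈ M, t ∉ m) (Sm : Type u) [CommRing Sm] [Algebra S Sm] [IsLocalization M Sm]
    [Algebra Sm K] [IsScalarTower S Sm K] [Module.Finite Sm (integralClosure Sm K)] : LocFin S K m := by
  classical
  obtain ⟨G, hG⟩ := (Module.Finite.fg_top : (⊤ : Submodule Sm (integralClosure Sm K)).FG)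
  let N : Finset K := G.image Subtype.val
  refine ⟨Submodule.span S (N : Set K), Submodule.fg_span N.finite_toSet, fun y hy => ?_⟩
  have hy' : y ∈ Submodule.span Sm (N : Set K) := by
    have h1 : (⟨y, hy.tower_top⟩ : integralClosure Sm K) ∈ Submodule.span Sm (G : Set (integralClosure Sm K)) := by
      rw [hG]; trivial
    have h2 := Submodule.mem_map_of_mem (f := (integralClosure Sm K).val.toLinearMap) h1
    rw [Submodule.map_span] at h2
    simpa [N, Finset.coe_image] using h2
  have key : ∀ z ∈ Submodule.span Sm (N : Set K), ∃ t ∈ M, t • z ∈ Submodule.span S (N : Set K) := by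
    intro z hz
    induction hz using Submodule.span_induction with
    | mem z hz => exact ⟨1, one_mem _, by rw [one_smul]; exact Submodule.subset_span hz⟩
    | zero => exact ⟨1, one_mem _, by rw [smul_zero]; exact zero_mem _⟩
    | add a b _ _ ha hb =>
      obtain ⟨t, ht, hta⟩ := ha
      obtain ⟨t', ht', htb⟩ := hb
      refine ⟨t * t', mul_mem ht ht', ?_⟩
      rw [smul_add]
      refine add_mem ?_ ?_
      · rw [mul_comm, mul_smul]; exact Submodule.smul_mem _ _ hta
      · rw [mul_smul]; exact Submodule.smul_mem _ _ htb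
    | smul c a _ ha =>
      obtain ⟨t, ht, hta⟩ := ha
      obtain ⟨r, s, rfl⟩ := IsLocalization.exists_mk'_eq M c
      refine ⟨(s : S) * t, mul_mem s.2 ht, ?_⟩
      have e : ((s : S) * t) • (IsLocalization.mk' Sm r s • a) = r • (t • a) := by
        rw [mul_smul, smul_comm t, ← smul_assoc, Algebra.smul_def (s : S), IsLocalization.mk'_spec', algebraMap_smul]
      rw [e]
      exact Submodule.smul_mem _ _ hta
  obtain ⟨t, ht, h⟩ := key y hy'
  exact ⟨t, hM t ht, h⟩

/-- Local finiteness from N-1 of a localization. -/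
theorem locFin_of_isN1 {S K : Type u} [CommRing S] [IsDomain S] [Field K] [Algebra S K] [IsFractionRing S K]
    (m : Ideal S) [m.IsPrime] (h : CAlg.IsN1 (Localization.AtPrime m)) : LocFin S K m := by
  have hle := m.primeCompl_le_nonZeroDivisors
  letI : Algebra (Localization.AtPrime m) K := IsLocalization.localizationAlgebraOfSubmonoidLe
    (Localization.AtPrime m) K m.primeCompl (nonZeroDivisors S) hle
  haveI : IsScalarTower S (Localization.AtPrime m) K :=
    IsLocalization.localization_isScalarTower_of_submonoid_le (Localization.AtPrime m) K m.primeCompl (nonZeroDivisors S) hle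
  haveI : IsFractionRing (Localization.AtPrime m) K :=
    IsFractionRing.isFractionRing_of_isDomain_of_isLocalization m.primeCompl (Localization.AtPrime m) K
  haveI : Module.Finite (Localization.AtPrime m) (integralClosure (Localization.AtPrime m) K) :=
    N2Lib.finite_of_isN1 h K
  exact locFin_of_finite m m.primeCompl (fun t ht => ht) (Localization.AtPrime m)

/-- Generic normality from a normal localization. -/
theorem hnor_of_away {S K : Type u} [CommRing S] [IsDomain S] [Field K] [Algebra S K] [IsFractionRing S K]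
    {f : S} (hf : f ≠ 0) (h : IsIntegrallyClosed (Localization.Away f)) :
    ∀ y : K, IsIntegral S y → ∃ (n : ℕ) (d : S), algebraMap S K (f ^ n) * y = algebraMap S K d := by
  have hle : Submonoid.powers f ≤ nonZeroDivisors S := powers_le_nonZeroDivisors_of_noZeroDivisors hf
  letI : Algebra (Localization.Away f) K := IsLocalization.localizationAlgebraOfSubmonoidLe
    (Localization.Away f) K (Submonoid.powers f) (nonZeroDivisors S) hle
  haveI : IsScalarTower S (Localization.Away f) K :=
    IsLocalization.localization_isScalarTower_of_submonoid_le (Localization.Away f) K (Submonoid.powers f) (nonZeroDivisors S) hle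
  haveI : IsFractionRing (Localization.Away f) K :=
    IsFractionRing.isFractionRing_of_isDomain_of_isLocalization (Submonoid.powers f) (Localization.Away f) K
  intro y hy
  obtain ⟨t, ⟨n, hn⟩, d, hd⟩ := (RegLocLib.isIntegrallyClosed_iff_denominators (S := Localization.Away f)
    (Submonoid.powers f) fun m => IsFractionRing.to_map_ne_zero_of_mem_nonZeroDivisors (hle m.2)).1 h y hy
  subst hn
  exact ⟨n, d, hd⟩

/-- An N-1 domain is generically normal. -/
theorem exists_away_normal {S : Type u} [CommRing S] [IsDomain S] (h : CAlg.IsN1 S) :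
    ∃ f : S, f ≠ 0 ∧ IsIntegrallyClosed (Localization.Away f) := by
  classical
  obtain ⟨T, hT⟩ := h.fg_top
  obtain ⟨f, hf⟩ := IsLocalization.exist_integer_multiples (nonZeroDivisors S) T
    fun z : integralClosure S (FractionRing S) => (z : FractionRing S)
  have hf0 : (f : S) ≠ 0 := nonZeroDivisors.ne_zero f.2
  have hle : Submonoid.powers (f : S) ≤ nonZeroDivisors S := powers_le_nonZeroDivisors_of_noZeroDivisors hf0
  let K := FractionRing S
  letI : Algebra (Localization.Away (f : S)) K := IsLocalization.localizationAlgebraOfSubmonoidLe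
    (Localization.Away (f : S)) K (Submonoid.powers (f : S)) (nonZeroDivisors S) hle
  haveI : IsScalarTower S (Localization.Away (f : S)) K :=
    IsLocalization.localization_isScalarTower_of_submonoid_le (Localization.Away (f : S)) K (Submonoid.powers (f : S)) (nonZeroDivisors S) hle
  haveI : IsFractionRing (Localization.Away (f : S)) K :=
    IsFractionRing.isFractionRing_of_isDomain_of_isLocalization (Submonoid.powers (f : S)) (Localization.Away (f : S)) K
  refine ⟨f, hf0, (RegLocLib.isIntegrallyClosed_iff_denominators (S := Localization.Away (f : S)) (K := K)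
    (Submonoid.powers (f : S)) fun m => IsFractionRing.to_map_ne_zero_of_mem_nonZeroDivisors (hle m.2)).2 fun y hy => ?_⟩
  refine ⟨f, Submonoid.mem_powers _, ?_⟩
  have hy' : (⟨y, hy⟩ : integralClosure S K) ∈ Submodule.span S (T : Set (integralClosure S K)) := by rw [hT]; trivial
  suffices h2 : ∀ z ∈ Submodule.span S (T : Set (integralClosure S K)), ∃ d : S, (f : S) • (z : K) = algebraMap S K d by
    obtain ⟨d, hd⟩ := h2 _ hy'
    exact ⟨d, by rw [← hd, Algebra.smul_def]⟩
  intro z hz
  induction hz using Submodule.span_induction with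
  | mem z hz =>
    obtain ⟨d, hd⟩ := hf z hz
    exact ⟨d, hd.symm⟩
  | zero => exact ⟨0, by rw [ZeroMemClass.coe_zero, smul_zero, map_zero]⟩
  | add a b _ _ ha hb =>
    obtain ⟨d, hd⟩ := ha
    obtain ⟨d', hd'⟩ := hb
    exact ⟨d + d', by rw [Subalgebra.coe_add, smul_add, hd, hd', map_add]⟩
  | smul c a _ ha =>
    obtain ⟨d, hd⟩ := ha
    refine ⟨c * d, ?_⟩
    rw [show ((c • a : integralClosure S K) : K) = c • (a : K) from rfl, smul_comm, hd, map_mul, Algebra.smul_def]

theorem isN1_iff_away_and_local (R : Type u) [CommRing R] [IsDomain R] [IsNoetherianRing R] :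
    CAlg.IsN1 R ↔ ((∃ f : R, f ≠ 0 ∧ IsIntegrallyClosed (Localization.Away f)) ∧
      ∀ (m : Ideal R) [m.IsMaximal], CAlg.IsN1 (Localization.AtPrime m)) := by
  refine ⟨fun h => ⟨exists_away_normal h, fun m _ => N2Lib.isN1_localization m.primeCompl _ h⟩, ?_⟩
  rintro ⟨⟨f, hf, hfn⟩, hloc⟩
  exact finite_of_locFin (K := FractionRing R) hf (hnor_of_away hf hfn)
    fun m hm => haveI := hm; locFin_of_isN1 m (hloc m)

end Groth.Agent.NagataLib
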