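import Mathlib
import Groth.Prelude.Def_Found
import Groth.Agent.N2Lib.Basic
import Groth.Agent.NagataCompleteLib.Tate

/-!
# Polynomial rings over N-1 and N-2 domains
-/

set_option autoImplicit false
set_option backward.isDefEq.respectTransparency false
set_option maxHeartbeats 1000000
universe u
open Polynomial

noncomputable section

namespace Groth.Agent.NagataLib

/-- Finiteness of the integral closure of a polynomial ring in a radicial extension. -/
theorem finite_integralClosure_polynomial (R : Type u) [CommRing R] [IsDomain R] [IsNoetherianRing R]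
    (q : ℕ) [ExpChar (FractionRing R) q] (L : Type u) [Field L] [Algebra R[X] L]
    [Algebra (FractionRing R[X]) L] [IsScalarTower R[X] (FractionRing R[X]) L]
    [FiniteDimensional (FractionRing R[X]) L] (N : ℕ)
    (hL : ∀ g : L, ∃ k : FractionRing R[X], g ^ q ^ N = algebraMap (FractionRing R[X]) L k)
    (hfin : ∀ (Ω : Type u) [Field Ω] [Algebra (FractionRing R) Ω] [Algebra R Ω]
      [IsScalarTower R (FractionRing R) Ω] (K' : IntermediateField (FractionRing R) Ω),
      FiniteDimensional (FractionRing R) K' → (∀ z ∈ K', z ^ q ^ N ∈ (algebraMap (FractionRing R) Ω).range) →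
      Module.Finite R (integralClosure R K')) :
    Module.Finite R[X] (integralClosure R[X] L) := by
  classical
  let K := FractionRing R
  let KX := FractionRing R[X]
  let Ω := AlgebraicClosure L
  let ι : L →+* Ω := algebraMap L Ω
  let Q := q ^ N
  have hQ : 0 < Q := pow_pos (expChar_pos K q) N
  letI aL : Algebra R L := ((algebraMap R[X] L).comp (C : R →+* R[X])).toAlgebra
  haveI : IsScalarTower R R[X] L := IsScalarTower.of_algebraMap_eq fun r => rfl
  haveI : IsScalarTower R[X] L Ω := inferInstance
  haveI : IsScalarTower R R[X] Ω := IsScalarTower.of_algebraMap_eq fun r => by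
    rw [IsScalarTower.algebraMap_apply R[X] L Ω, IsScalarTower.algebraMap_apply R L Ω]
    rfl
  have hXinj : Function.Injective (algebraMap R[X] Ω) := by
    rw [IsScalarTower.algebraMap_eq R[X] L Ω, IsScalarTower.algebraMap_eq R[X] KX L]
    exact ι.injective.comp ((algebraMap KX L).injective.comp (IsFractionRing.injective R[X] KX))
  have hRinj : Function.Injective (algebraMap R Ω) := hXinj.comp C_injective
  letI aKK : Algebra K Ω := (IsFractionRing.lift hRinj).toAlgebra
  haveI : IsScalarTower R K Ω := IsScalarTower.of_algebraMap_eq fun r => (IsFractionRing.lift_algebraMap hRinj r).symm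
  haveI : ExpChar Ω q := expChar_of_injective_algebraMap (algebraMap K Ω).injective q
  obtain ⟨s, hs⟩ := (Module.Finite.fg_top : (⊤ : Submodule KX L).FG)
  have hgk : ∀ g : L, ∃ f h : R[X], h ≠ 0 ∧ ι g ^ Q * algebraMap R[X] Ω h = algebraMap R[X] Ω f := fun g => by
    obtain ⟨k, hk⟩ := hL g
    obtain ⟨f, h, hh, rfl⟩ := IsFractionRing.div_surjective R[X] k
    refine ⟨f, h, nonZeroDivisors.ne_zero hh, ?_⟩
    rw [IsScalarTower.algebraMap_apply R[X] L Ω, IsScalarTower.algebraMap_apply R[X] L Ω f]
    rw [← map_pow, ← map_mul, hk, IsScalarTower.algebraMap_apply R[X] KX L h, IsScalarTower.algebraMap_apply R[X] KX L f,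
      ← map_mul, div_mul_cancel₀ _ (IsFractionRing.to_map_ne_zero_of_mem_nonZeroDivisors hh)]
  choose fn hn hn0 hgk using hgk
  let coeffs : Finset R := (s.image fn ∪ s.image hn).biUnion fun f => f.support.image f.coeff
  choose root hroot using fun c : R => IsAlgClosed.exists_pow_nat_eq (algebraMap R Ω c) hQ
  obtain ⟨y, hy⟩ := IsAlgClosed.exists_pow_nat_eq (algebraMap R[X] Ω X) hQ
  let K' : IntermediateField K Ω := IntermediateField.adjoin K ((coeffs.image root : Finset Ω) : Set Ω)
  haveI : IsScalarTower R K' Ω := IsScalarTower.of_algebraMap_eq fun r => rfl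
  have hK'pow : ∀ z ∈ K', z ^ Q ∈ (algebraMap K Ω).range := by
    intro z hz
    induction hz using IntermediateField.adjoin_induction with
    | mem z hz =>
      obtain ⟨c, -, rfl⟩ := Finset.mem_image.1 hz
      exact ⟨algebraMap R K c, by rw [hroot, ← IsScalarTower.algebraMap_apply]⟩
    | algebraMap x => exact ⟨x ^ Q, map_pow _ _ _⟩
    | add a b _ _ ha hb => rw [add_pow_expChar_pow]; exact add_mem ha hb
    | inv a _ ha =>
      obtain ⟨x, hx⟩ := ha
      exact ⟨x⁻¹, by rw [map_inv₀, hx, inv_pow]⟩
    | mul a b _ _ ha hb => rw [mul_pow]; exact mul_mem ha hb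
  haveI : FiniteDimensional K K' := IntermediateField.finiteDimensional_adjoin fun z hz => by
    obtain ⟨c, -, rfl⟩ := Finset.mem_image.1 hz
    exact IsIntegral.of_pow hQ (by rw [hroot, IsScalarTower.algebraMap_apply R K Ω]; exact isIntegral_algebraMap)
  let R' := integralClosure R K'
  haveI : Module.Finite R R' := hfin Ω K' inferInstance hK'pow
  haveI : IsIntegrallyClosed R' := integralClosure.isIntegrallyClosedOfFiniteExtension K
  let v : R' →+* Ω := (algebraMap K' Ω).comp (algebraMap R' K')
  let φ : R'[X] →+* Ω := eval₂RingHom v y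
  have hvR : ∀ r : R, v (algebraMap R R' r) = algebraMap R Ω r := fun r => by
    show algebraMap K' Ω (algebraMap R' K' (algebraMap R R' r)) = algebraMap R Ω r
    rw [← IsScalarTower.algebraMap_apply R R' K', ← IsScalarTower.algebraMap_apply R K' Ω]
  have hXK : ∀ p : K[X], p.eval₂ (algebraMap K Ω) (algebraMap R[X] Ω X) = 0 → p = 0 := fun p hp => by
    obtain ⟨b, hb, hp'⟩ : ∃ b : R, b ≠ 0 ∧ ∃ p0 : R[X], p0.map (algebraMap R K) = Polynomial.C (algebraMap R K b) * p := by
      obtain ⟨b, hb⟩ := IsLocalization.integerNormalization_map_to_map (nonZeroDivisors R) p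
      exact ⟨b, nonZeroDivisors.ne_zero b.2, IsLocalization.integerNormalization (nonZeroDivisors R) p, by
        rw [hb, Algebra.smul_def, Polynomial.algebraMap_apply]⟩
    obtain ⟨p0, hp0⟩ := hp'
    have h1 : algebraMap R[X] Ω p0 = 0 := by
      have h2 := congrArg (eval₂ (algebraMap K Ω) (algebraMap R[X] Ω X)) hp0
      rw [eval₂_mul, hp, mul_zero, eval₂_map, ← IsScalarTower.algebraMap_eq] at h2
      rw [← h2, ← aeval_def]
      have h3 := aeval_algHom_apply (IsScalarTower.toAlgHom R R[X] Ω) X p0
      rw [aeval_X_left_apply] at h3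
      exact h3.symm
    rw [hXinj (h1.trans (map_zero _).symm), Polynomial.map_zero] at hp0
    exact (mul_eq_zero.1 hp0.symm).resolve_left (C_ne_zero.2 ((map_ne_zero_iff _ (IsFractionRing.injective R K)).2 hb))
  have hφ : Function.Injective φ := (injective_iff_map_eq_zero φ).2 fun p hp => by
    have hk : ∀ i, ∃ k : K, algebraMap K Ω k = v (p.coeff i) ^ Q := fun i =>
      hK'pow _ (algebraMap R' K' (p.coeff i)).2
    choose k hk using hk
    let p' : K[X] := ∑ i ∈ p.support, C (k i) * X ^ i
    have h1 : p'.eval₂ (algebraMap K Ω) (algebraMap R[X] Ω X) = φ p ^ Q := by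
      show _ = (eval₂ v y p) ^ Q
      rw [eval₂_eq_sum (f := v), Polynomial.sum_def, sum_pow_char_pow q N, eval₂_finsetSum]
      refine Finset.sum_congr rfl fun i _ => ?_
      rw [eval₂_mul, eval₂_C, eval₂_X_pow, hk, mul_pow, ← hy, ← pow_mul, ← pow_mul, mul_comm Q i]
    rw [hp, zero_pow hQ.ne'] at h1
    ext i
    by_contra hne
    have h3 := congrArg (fun r => Polynomial.coeff r i) (hXK p' h1)
    have hi : i ∈ p.support := mem_support_iff.2 fun h => hne (by rw [h, coeff_zero])
    simp only [p', finset_sum_coeff, coeff_C_mul_X_pow, coeff_zero, Finset.sum_ite_eq, if_pos hi] at h3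
    have h4 := hk i
    rw [h3, map_zero, eq_comm, pow_eq_zero_iff hQ.ne'] at h4
    refine hne ?_
    rw [coeff_zero]
    rw [(map_eq_zero_iff v ((algebraMap K' Ω).injective.comp Subtype.val_injective)).1 h4]
  -- the target
  have hrange : ∀ a : R[X], algebraMap R[X] Ω a = φ ((a.map (algebraMap R R')).comp (X ^ Q)) := fun a => by
    show _ = eval₂ v y _
    rw [eval₂_comp, eval₂_X_pow, hy, eval₂_map, show v.comp (algebraMap R R') = algebraMap R Ω from RingHom.ext hvR,
      ← aeval_def]
    have h3 := aeval_algHom_apply (IsScalarTower.toAlgHom R R[X] Ω) X a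
    rw [aeval_X_left_apply] at h3
    exact h3.symm
  let T : Subalgebra R[X] Ω := { φ.range with algebraMap_mem' := fun a => ⟨_, (hrange a).symm⟩ }
  haveI : Module.Finite R[X] T := by
    obtain ⟨G, hG⟩ := (Module.Finite.fg_top : (⊤ : Submodule R R').FG)
    let U := Algebra.adjoin R[X] (insert y (v '' (G : Set R')))
    haveI : Module.Finite R[X] U := by
      refine Module.Finite.iff_fg.2 (fg_adjoin_of_finite ((G.finite_toSet.image v).insert y) ?_)
      rintro z (rfl | ⟨g, -, rfl⟩)
      · exact IsIntegral.of_pow hQ (hy ▸ isIntegral_algebraMap)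
      · obtain ⟨p, hp, hpg⟩ := (Algebra.IsIntegral.isIntegral (R := R) g)
        have hint : IsIntegral R (v g) := ⟨p, hp, by
          rw [show algebraMap R Ω = v.comp (algebraMap R R') from (RingHom.ext hvR).symm, ← hom_eval₂, hpg, map_zero]⟩
        exact hint.tower_top
    have hv : ∀ r : R', v r ∈ U := fun r => by
      have hr : r ∈ Submodule.span R (G : Set R') := by rw [hG]; trivial
      induction hr using Submodule.span_induction with
      | mem g hg => exact Algebra.subset_adjoin (Or.inr ⟨g, hg, rfl⟩)
      | zero => rw [map_zero]; exact zero_mem _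
      | add a b _ _ ha hb => rw [map_add]; exact add_mem ha hb
      | smul c a _ ha =>
        rw [Algebra.smul_def, map_mul, hvR, IsScalarTower.algebraMap_apply R R[X] Ω]
        exact mul_mem (U.algebraMap_mem _) ha
    have hle : T ≤ U := by
      rintro _ ⟨p, rfl⟩
      show eval₂ v y p ∈ U
      rw [eval₂_eq_sum, Polynomial.sum_def]
      exact sum_mem fun i _ => mul_mem (hv _) (pow_mem (Algebra.subset_adjoin (Set.mem_insert y _)) i)
    haveI : IsNoetherian R[X] U := isNoetherian_of_isNoetherianRing_of_finite _ _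
    exact Module.Finite.of_injective (Subalgebra.inclusion hle).toLinearMap (Subalgebra.inclusion_injective hle)
  let F : Subfield Ω := Subfield.closure (φ.range : Set Ω)
  haveI : IsIntegrallyClosed φ.range := IsIntegrallyClosed.of_equiv
    (RingEquiv.ofBijective φ.rangeRestrict ⟨fun a b h => hφ (congrArg Subtype.val h :), φ.rangeRestrict_surjective⟩)
  have hsub : φ.range ≤ F.toSubring := fun z hz => Subfield.subset_closure hz
  have hmemF : ∀ z : L, ι z ∈ F := fun z => by
    have hA : ∀ a : R[X], algebraMap R[X] Ω a ∈ F := fun a => by rw [hrange a]; exact hsub ⟨_, rfl⟩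
    have hroots : ∀ f : R[X], (∀ i ∈ f.support, f.coeff i ∈ coeffs) →
        ∃ u ∈ F, u ^ Q = algebraMap R[X] Ω f := fun f hf => by
      have hc : ∀ i ∈ f.support, ∃ r : R', v r = root (f.coeff i) := fun i hi => by
        have hmem : root (f.coeff i) ∈ K' := IntermediateField.subset_adjoin K _
          (Finset.mem_image_of_mem root (hf i hi))
        have hint : IsIntegral R (⟨_, hmem⟩ : K') := by
          refine (isIntegral_algHom_iff (IsScalarTower.toAlgHom R K' Ω) (algebraMap K' Ω).injective).1 ?_
          exact IsIntegral.of_pow hQ (show IsIntegral R (root (f.coeff i) ^ Q) by rw [hroot]; exact isIntegral_algebraMap)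
        exact ⟨⟨⟨_, hmem⟩, hint⟩, rfl⟩
      choose r hr using hc
      refine ⟨φ (∑ i ∈ f.support.attach, C (r i.1 i.2) * X ^ (i : ℕ)), hsub ⟨_, rfl⟩, ?_⟩
      rw [map_sum, sum_pow_char_pow q N]
      conv_rhs => rw [f.as_sum_support_C_mul_X_pow, map_sum, ← Finset.sum_attach]
      refine Finset.sum_congr rfl fun i _ => ?_
      show (eval₂ v y _) ^ Q = _
      rw [eval₂_mul, eval₂_C, eval₂_X_pow, mul_pow, hr, hroot, ← pow_mul, mul_comm (i : ℕ) Q, pow_mul, hy, map_mul, map_pow]
      rfl
    have hgen : ∀ g ∈ s, ι g ∈ F := fun g hg => by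
      obtain ⟨u, hu, hu'⟩ := hroots (fn g) fun i hi => Finset.mem_biUnion.2
        ⟨fn g, Finset.mem_union_left _ (Finset.mem_image_of_mem _ hg), Finset.mem_image_of_mem _ hi⟩
      obtain ⟨w, hw, hw'⟩ := hroots (hn g) fun i hi => Finset.mem_biUnion.2
        ⟨hn g, Finset.mem_union_right _ (Finset.mem_image_of_mem _ hg), Finset.mem_image_of_mem _ hi⟩
      have hw0 : w ≠ 0 := fun h => hn0 g (hXinj (by rw [map_zero, ← hw', h, zero_pow hQ.ne']))
      have e : ι g * w = u := by
        refine iterateFrobenius_inj Ω q N ?_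
        simp only [iterateFrobenius_def]
        show (ι g * w) ^ Q = u ^ Q
        rw [mul_pow, hw', hu', hgk g]
      rw [show ι g = u / w by rw [eq_div_iff hw0, e]]
      exact div_mem hu hw
    have hz : z ∈ Submodule.span KX (s : Set L) := by rw [hs]; trivial
    induction hz using Submodule.span_induction with
    | mem g hg => exact hgen g hg
    | zero => rw [map_zero]; exact zero_mem _
    | add a b _ _ ha hb => rw [map_add]; exact add_mem ha hb
    | smul c a _ ha =>
      obtain ⟨f, h, hh, rfl⟩ := IsFractionRing.div_surjective R[X] c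
      rw [Algebra.smul_def, map_mul, map_div₀, map_div₀]
      refine mul_mem (div_mem ?_ ?_) ha
      · rw [← IsScalarTower.algebraMap_apply R[X] KX L]; exact hA f
      · rw [← IsScalarTower.algebraMap_apply R[X] KX L]; exact hA h
  have hmemT : ∀ z : L, IsIntegral R[X] z → ι z ∈ φ.range := fun z hz => by
    letI : Algebra φ.range F := (Subring.inclusion hsub).toAlgebra
    haveI : FaithfulSMul φ.range F := (faithfulSMul_iff_algebraMap_injective _ _).2 (Subring.inclusion_injective hsub)
    haveI : IsFractionRing φ.range F := IsFractionRing.of_field _ _ fun w => by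
      obtain ⟨a, ha, b, hb, hab⟩ := Subfield.mem_closure_iff.1 w.2
      rw [Subring.closure_eq] at ha hb
      exact ⟨⟨a, ha⟩, ⟨b, hb⟩, Subtype.ext hab.symm⟩
    obtain ⟨p, hp, hpz⟩ := hz
    let g : R[X] →+* φ.range := (algebraMap R[X] Ω).codRestrict φ.range fun a => ⟨_, (hrange a).symm⟩
    have hint : IsIntegral φ.range (⟨ι z, hmemF z⟩ : F) := by
      refine ⟨p.map g, hp.map g, Subtype.ext ?_⟩
      rw [eval₂_map]
      show F.subtype (eval₂ ((algebraMap φ.range F).comp g) ⟨ι z, hmemF z⟩ p) = 0
      rw [hom_eval₂, show F.subtype.comp ((algebraMap φ.range F).comp g) = ι.comp (algebraMap R[X] L) from rfl,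
        show F.subtype ⟨ι z, hmemF z⟩ = ι z from rfl, ← hom_eval₂, hpz, map_zero]
    obtain ⟨w, hw⟩ := IsIntegrallyClosed.isIntegral_iff.1 hint
    rw [show ι z = (w : Ω) from (congrArg Subtype.val hw).symm]
    exact w.2
  let j : integralClosure R[X] L →ₗ[R[X]] T :=
    { toFun := fun z => ⟨ι z.1, hmemT z.1 z.2⟩
      map_add' := fun a b => Subtype.ext (map_add ι _ _)
      map_smul' := fun c a => Subtype.ext (by
        simp [ι, Algebra.smul_def, IsScalarTower.algebraMap_apply R[X] L Ω]) }
  haveI : IsNoetherian R[X] T := isNoetherian_of_isNoetherianRing_of_finite _ _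
  exact Module.Finite.of_injective j fun a b h => Subtype.ext (ι.injective (congrArg Subtype.val h :))

theorem isN2_polynomial (R : Type u) [CommRing R] [IsDomain R] [IsNoetherianRing R] (h : CAlg.IsN2 R) :
    CAlg.IsN2 R[X] := by
  refine NagataCompleteLib.isN2_of_purelyInseparable R[X] fun L _ _ _ _ _ _ => ?_
  classical
  obtain ⟨q, hq⟩ := ExpChar.exists (FractionRing R[X])
  haveI : ExpChar (FractionRing R) q := by
    obtain ⟨q', hq'⟩ := ExpChar.exists (FractionRing R)
    have h1 : Function.Injective ((algebraMap R[X] (FractionRing R[X])).comp (C : R →+* R[X])) :=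
      (IsFractionRing.injective R[X] (FractionRing R[X])).comp C_injective
    haveI := expChar_of_injective_ringHom (IsFractionRing.lift (K := FractionRing R) h1).injective q'
    rwa [ExpChar.eq (inferInstance : ExpChar (FractionRing R[X]) q) (inferInstance : ExpChar (FractionRing R[X]) q')]
  obtain ⟨s, hs⟩ := (Module.Finite.fg_top : (⊤ : Submodule (FractionRing R[X]) L).FG)
  choose n hn using fun g : L => IsPurelyInseparable.pow_mem (FractionRing R[X]) q g
  refine finite_integralClosure_polynomial R q L (s.sup n) (fun g => ?_) fun Ω _ _ _ _ K' hK' _ => ?_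
  · haveI : ExpChar L q := expChar_of_injective_algebraMap (algebraMap (FractionRing R[X]) L).injective q
    have hg : g ∈ Submodule.span (FractionRing R[X]) (s : Set L) := by rw [hs]; trivial
    suffices h : g ^ q ^ (s.sup n) ∈ (algebraMap (FractionRing R[X]) L).range by
      obtain ⟨k, hk⟩ := h
      exact ⟨k, hk.symm⟩
    induction hg using Submodule.span_induction with
    | mem x hx =>
      obtain ⟨k, hk⟩ := hn x
      refine ⟨k ^ q ^ (s.sup n - n x), ?_⟩
      rw [map_pow, hk, ← pow_mul, ← pow_add, Nat.add_sub_cancel' (Finset.le_sup hx)]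
    | zero => exact ⟨0, by rw [map_zero, zero_pow (pow_ne_zero _ (expChar_pos (FractionRing R[X]) q).ne')]⟩
    | add a b _ _ ha hb => rw [add_pow_expChar_pow]; exact add_mem ha hb
    | smul c a _ ha =>
      rw [Algebra.smul_def, mul_pow]
      exact mul_mem ⟨c ^ q ^ s.sup n, map_pow _ _ _⟩ ha
  · haveI := hK'
    exact N2Lib.finite_of_isN2 h (FractionRing R) K'

theorem isN1_polynomial (R : Type u) [CommRing R] [IsDomain R] [IsNoetherianRing R] (h : CAlg.IsN1 R) :
    CAlg.IsN1 R[X] := by
  obtain ⟨q, hq⟩ := ExpChar.exists (FractionRing R)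
  refine finite_integralClosure_polynomial R q (FractionRing R[X]) 0 (fun g => ⟨g, by simp⟩) fun Ω _ _ _ _ K' _ hK' => ?_
  have hbot : K' = ⊥ := le_bot_iff.1 fun z hz => by
    have h1 := hK' z hz
    rw [pow_zero, pow_one] at h1
    exact h1
  let e : K' ≃ₐ[FractionRing R] FractionRing R :=
    (IntermediateField.equivOfEq hbot).trans (IntermediateField.botEquiv (FractionRing R) Ω)
  haveI : Module.Finite R (integralClosure R (FractionRing R)) := h
  exact Module.Finite.equiv (AlgEquiv.mapIntegralClosure (e.restrictScalars R).symm).toLinearEquiv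

end Groth.Agent.NagataLib
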