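import Groth.Agent.NagataLib.Completion
import Groth.Agent.NagataLib.Criterion
import Groth.Agent.NagataLib.Poly
import Groth.Agent.S4710

/-!
# Algebras of finite type over Nagata rings are Nagata
-/

set_option autoImplicit false
set_option backward.isDefEq.respectTransparency false
set_option maxHeartbeats 1000000
universe u
open TensorProduct IsLocalRing Polynomial

noncomputable section

namespace Groth.Agent.NagataLib

theorem isNagata_of_surjective {A C : Type u} [CommRing A] [CommRing C] (g : A →+* C) (hg : Function.Surjective g)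
    (hA : CAlg.IsNagata A) : CAlg.IsNagata C := by
  haveI := hA.1
  refine ⟨isNoetherianRing_of_surjective A C g hg, fun P _ => ?_⟩
  let ψ := (Ideal.Quotient.mk P).comp g
  have hk : RingHom.ker ψ = P.comap g := Ideal.ext fun a => by
    rw [RingHom.mem_ker, Ideal.mem_comap, RingHom.comp_apply, Ideal.Quotient.eq_zero_iff_mem]
  exact NagataCompleteLib.isN2_of_ringEquiv
    ((Ideal.quotEquivOfEq hk.symm).trans (RingHom.quotientKerEquivOfSurjective (f := ψ) (Ideal.Quotient.mk_surjective.comp hg)))
    (hA.2 (P.comap g))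

/-- A ring of fractions of images of a Nagata ring is Nagata. -/
theorem isNagata_of_fractions {R C : Type u} [CommRing R] [CommRing C] (f : R →+* C) (hR : CAlg.IsNagata R)
    (h : ∀ c : C, ∃ r u, IsUnit (f u) ∧ c * f u = f r) : CAlg.IsNagata C := by
  let M : Submonoid R := (IsUnit.submonoid C).comap f.toMonoidHom
  let g : Localization M →+* C := IsLocalization.lift (M := M) (g := f) fun u => u.2
  refine isNagata_of_surjective g (fun c => ?_) (S4710.result R hR M)
  obtain ⟨r, u, hu, hru⟩ := h c
  refine ⟨IsLocalization.mk' _ r (⟨u, hu⟩ : M), ?_⟩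
  rw [IsLocalization.lift_mk'_spec, ← hru, mul_comm]

/-- A finite domain over a Nagata ring is Nagata. -/
theorem isNagata_of_finite {R C : Type u} [CommRing R] [CommRing C] [Algebra R C] [Module.Finite R C]
    (hR : CAlg.IsNagata R) : CAlg.IsNagata C := by
  haveI := hR.1
  refine ⟨IsNoetherianRing.of_finite R C, fun P _ => ?_⟩
  let p := P.comap (algebraMap R C)
  letI : Algebra (R ⧸ p) (C ⧸ P) := (Ideal.quotientMap P (algebraMap R C) le_rfl).toAlgebra
  haveI : IsScalarTower R (R ⧸ p) (C ⧸ P) := IsScalarTower.of_algebraMap_eq fun _ => rfl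
  haveI : Module.Finite R (C ⧸ P) := Module.Finite.trans C _
  haveI : Module.Finite (R ⧸ p) (C ⧸ P) := Module.Finite.of_restrictScalars_finite R _ _
  exact NagataCompleteLib.isN2_of_finite (R0 := R ⧸ p) Ideal.quotientMap_injective (hR.2 p)

/-- The special fibre of the completion along a prime with Nagata quotient is reduced. -/
theorem isReduced_completion_quot {A : Type u} [CommRing A] [IsLocalRing A] [IsNoetherianRing A]
    (P : Ideal A) [P.IsPrime] (hP : CAlg.IsNagata (A ⧸ P)) :
    IsReduced (AdicCompletion (maximalIdeal A) A ⧸ P.map (algebraMap A (AdicCompletion (maximalIdeal A) A))) := by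
  let Ah := AdicCompletion (maximalIdeal A) A
  let C := A ⧸ P
  haveI : IsLocalRing C := IsLocalRing.of_surjective' _ Ideal.Quotient.mk_surjective
  haveI : IsNoetherianRing Ah := RegLocal.isNoetherianRing_completion A _
  haveI := RegLocal.isLocalRing_completion A (maximalIdeal A) (maximalIdeal.isMaximal A).ne_top
  let B := C ⊗[A] Ah
  let σ : Ah →ₐ[A] B := Algebra.TensorProduct.includeRight
  have hσ : Function.Surjective σ := by
    intro z
    induction z using TensorProduct.induction_on with
    | zero => exact ⟨0, map_zero _⟩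
    | add x y hx hy =>
      obtain ⟨x', rfl⟩ := hx
      obtain ⟨y', rfl⟩ := hy
      exact ⟨x' + y', map_add _ _ _⟩
    | tmul c b =>
      obtain ⟨a, rfl⟩ := Ideal.Quotient.mk_surjective c
      refine ⟨a • b, ?_⟩
      show (1 : C) ⊗ₜ[A] (a • b) = _
      rw [← TensorProduct.smul_tmul, Algebra.smul_def, mul_one]
      rfl
  haveI : IsNoetherianRing B := isNoetherianRing_of_surjective Ah B σ.toRingHom hσ
  have hmC : ∀ a ∈ maximalIdeal A, Ideal.Quotient.mk P a ∈ maximalIdeal C := fun a ha => by
    rw [IsLocalRing.mem_maximalIdeal, mem_nonunits_iff]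
    haveI : IsLocalHom (Ideal.Quotient.mk P) := IsLocalHom.of_surjective _ Ideal.Quotient.mk_surjective
    exact fun hu => ha (IsLocalHom.map_nonunit a hu)
  have hcomm : ∀ a : A, σ (algebraMap A Ah a) = algebraMap C B (Ideal.Quotient.mk P a) := fun a => by
    rw [AlgHom.commutes]
    exact IsScalarTower.algebraMap_apply A C B a
  haveI : IsReduced (C ⊗[C] B) := by
    refine isReduced_tensor hP B ?_ (fun b => ?_) C
    · refine Ideal.map_le_iff_le_comap.2 fun c hc => ?_
      obtain ⟨a, rfl⟩ := Ideal.Quotient.mk_surjective c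
      have ha : a ∈ maximalIdeal A := by
        rw [IsLocalRing.mem_maximalIdeal, mem_nonunits_iff]
        exact fun hu => hc (hu.map _)
      show algebraMap C B (Ideal.Quotient.mk P a) ∈ (⊥ : Ideal B).jacobson
      rw [← hcomm]
      refine mem_jacobson_of_finite σ.toRingHom (RingHom.Finite.of_surjective _ hσ) (maximalIdeal_le_jacobson _ ?_)
      rw [RegLocal.maximalIdeal_completion A (maximalIdeal A) (maximalIdeal.isMaximal A).ne_top]
      exact Ideal.mem_map_of_mem _ ha
    · obtain ⟨x, rfl⟩ := hσ b
      obtain ⟨a, ha⟩ := completion_residual x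
      refine ⟨Ideal.Quotient.mk P a, ?_⟩
      rw [← hcomm, ← map_sub]
      have h1 := Ideal.mem_map_of_mem σ.toRingHom ha
      rw [Ideal.map_map] at h1
      refine (Ideal.map_le_iff_le_comap.2 ?_ : Ideal.map (σ.toRingHom.comp (algebraMap A Ah)) (maximalIdeal A) ≤ Ideal.map (algebraMap C B) (maximalIdeal C)) h1
      intro d hd
      show σ (algebraMap A Ah d) ∈ Ideal.map (algebraMap C B) (maximalIdeal C)
      rw [hcomm]
      exact Ideal.mem_map_of_mem _ (hmC d hd)
  haveI : IsReduced B := isReduced_of_injective (Algebra.TensorProduct.lid C B).symm.toRingEquiv.toRingHom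
    (AlgEquiv.injective _)
  refine (Ideal.isRadical_iff_quotient_reduced _).1 fun z hz => ?_
  obtain ⟨n, hn⟩ := hz
  have hker : RingHom.ker σ = P.map (algebraMap A Ah) := by
    refine le_antisymm (fun w hw => ?_) (Ideal.map_le_iff_le_comap.2 fun a ha => ?_)
    · let e := Algebra.TensorProduct.quotIdealMapEquivTensorQuot Ah P
      rw [← Ideal.Quotient.eq_zero_iff_mem]
      refine (map_eq_zero_iff e e.injective).1 ?_
      have h0 : (Algebra.TensorProduct.comm A C Ah) (σ w) = 0 := by
        rw [show σ w = 0 from hw, map_zero]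
      rw [← h0]
      show _ = (Algebra.TensorProduct.comm A C Ah) ((1 : C) ⊗ₜ[A] w)
      rw [Algebra.TensorProduct.comm_tmul]
      exact Algebra.TensorProduct.quotIdealMapEquivTensorQuot_mk Ah P w
    · show σ (algebraMap A Ah a) = 0
      rw [hcomm, Ideal.Quotient.eq_zero_iff_mem.2 ha, map_zero]
  rw [← hker] at hn ⊢
  have hn' : σ z ^ n = 0 := by rw [← map_pow]; exact hn
  exact (IsNilpotent.eq_zero ⟨n, hn'⟩ : σ z = 0)

theorem mem_adjoin_singleton {R L : Type u} [CommRing R] [CommRing L] [Algebra R L] {x s : L}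
    (h : s ∈ Algebra.adjoin R {x}) : ∃ p : R[X], aeval x p = s := by
  rw [Algebra.adjoin_singleton_eq_range_aeval] at h
  exact h

/-- Contraction of an associated prime along a localization. -/
theorem comap_mem_associatedPrimes {S Sm : Type u} [CommRing S] [IsNoetherianRing S] [CommRing Sm] [Algebra S Sm]
    (M : Submonoid S) [IsLocalization M Sm] (x : S) (P : Ideal Sm)
    (hP : P ∈ associatedPrimes Sm (Sm ⧸ Ideal.span {algebraMap S Sm x})) :
    P.comap (algebraMap S Sm) ∈ associatedPrimes S (S ⧸ Ideal.span {x}) := by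
  classical
  haveI : IsNoetherianRing Sm := IsLocalization.isNoetherianRing M Sm inferInstance
  obtain ⟨hPp, y, hy⟩ := isAssociatedPrime_iff.1 hP
  obtain ⟨y, rfl⟩ := Ideal.Quotient.mk_surjective y
  obtain ⟨s, t, rfl⟩ := IsLocalization.exists_mk'_eq M y
  let P' := P.comap (algebraMap S Sm)
  haveI := hPp
  have hmem : ∀ z, z ∈ P ↔ z * IsLocalization.mk' Sm s t ∈ Ideal.span {algebraMap S Sm x} := fun z => by
    rw [hy, Submodule.mem_colon_singleton, Submodule.mem_bot, ← Ideal.Quotient.eq_zero_iff_mem]
    rfl
  have hex : ∀ u ∈ P', ∃ v ∈ M, v * (u * s) ∈ Ideal.span {x} := fun u hu => by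
    have h := (hmem _).1 hu
    rw [IsLocalization.mul_mk'_eq_mk'_of_mul, ← Set.image_singleton, ← Ideal.map_span,
      IsLocalization.mk'_mem_map_algebraMap_iff] at h
    exact h
  obtain ⟨T, hT⟩ := IsNoetherian.noetherian P'
  choose v hv hv' using fun u : T => hex u.1 (hT ▸ Submodule.subset_span u.2)
  let v0 := ∏ u : T, v u
  have hv0 : ∀ u ∈ P', v0 * (u * s) ∈ Ideal.span {x} := by
    intro u hu
    rw [← hT] at hu
    induction hu using Submodule.span_induction with
    | mem z hz =>
      obtain ⟨c, hc⟩ := Finset.dvd_prod_of_mem v (Finset.mem_univ (⟨z, hz⟩ : T))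
      rw [show v0 * (z * s) = c * (v ⟨z, hz⟩ * (z * s)) by rw [show v0 = v ⟨z, hz⟩ * c from hc]; ring]
      exact Ideal.mul_mem_left _ c (hv' ⟨z, hz⟩)
    | zero => rw [zero_mul, mul_zero]; exact zero_mem _
    | add a b _ _ ha hb => rw [add_mul, mul_add]; exact add_mem ha hb
    | smul c a _ ha => rw [smul_eq_mul, mul_assoc, mul_left_comm]; exact Ideal.mul_mem_left _ c ha
  refine isAssociatedPrime_iff.2 ⟨inferInstance, Ideal.Quotient.mk _ (v0 * s), Ideal.ext fun u => ?_⟩
  have hu_iff : u ∈ Submodule.colon (⊥ : Submodule S (S ⧸ Ideal.span {x})) {Ideal.Quotient.mk _ (v0 * s)} ↔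
      u * (v0 * s) ∈ Ideal.span {x} := by
    rw [Submodule.mem_colon_singleton, Submodule.mem_bot, ← Ideal.Quotient.eq_zero_iff_mem]
    rfl
  rw [hu_iff]
  constructor
  · intro hu
    have := hv0 u hu
    rwa [mul_left_comm] at this
  · intro hu
    show algebraMap S Sm u ∈ P
    rw [hmem, IsLocalization.mul_mk'_eq_mk'_of_mul, ← Set.image_singleton, ← Ideal.map_span,
      IsLocalization.mk'_mem_map_algebraMap_iff]
    exact ⟨v0, prod_mem fun u _ => hv u, by rwa [mul_left_comm]⟩

variable {R L : Type u} [CommRing R] [IsDomain R] [IsIntegrallyClosed R] [Field L] [Algebra R L] [IsFractionRing R L]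

/-- Over a normal ring a multiple of `x` in `R[x]` lying in `R` is a multiple of `x` by an element of `R`. -/
theorem exists_eq_mul_of_mul_adjoin {x : L} (r : R) {s : L} (hs : s ∈ Algebra.adjoin R {x})
    (h : algebraMap R L r = x * s) (hx : x ≠ 0) : ∃ r' : R, algebraMap R L r = x * algebraMap R L r' := by
  suffices hint : IsIntegral R s by
    obtain ⟨r', hr'⟩ := IsIntegrallyClosed.isIntegral_iff.1 hint
    exact ⟨r', by rw [hr', h]⟩
  obtain ⟨p, rfl⟩ := mem_adjoin_singleton hs
  let n := p.natDegree
  let z := aeval x p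
  refine ⟨X ^ (n + 1) - ∑ i ∈ Finset.range (n + 1), C (p.coeff i * r ^ i) * X ^ (n - i), ?_, ?_⟩
  · refine monic_X_pow_sub ((degree_sum_le _ _).trans_lt ((Finset.sup_lt_iff (WithBot.bot_lt_coe _)).2 fun i _ => ?_))
    refine (degree_C_mul_X_pow_le _ _).trans_lt ?_
    exact WithBot.coe_lt_coe.2 (Nat.lt_succ_of_le (Nat.sub_le n i))
  · rw [eval₂_sub, eval₂_X_pow, eval₂_finsetSum, sub_eq_zero, pow_succ]
    conv_lhs => enter [2]; rw [aeval_eq_sum_range (S := L) (p := p) x]
    rw [Finset.mul_sum]
    refine Finset.sum_congr rfl fun i hi => ?_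
    rw [eval₂_mul, eval₂_C, eval₂_X_pow, map_mul, map_pow, h, mul_pow, Algebra.smul_def]
    have hin : i + (n - i) = n := Nat.add_sub_cancel' (Nat.lt_succ_iff.1 (Finset.mem_range.1 hi))
    conv_lhs => rw [show aeval x p ^ n = aeval x p ^ i * aeval x p ^ (n - i) by rw [← pow_add, hin]]
    ring

/-- `R[x]` has reduced completion at a prime containing `x`. -/
theorem isReduced_completion_of_mem (hR : CAlg.IsNagata R) {x : L} (hx0 : x ≠ 0) (S : Subalgebra R L)
    (hS : S = Algebra.adjoin R {x}) [IsNoetherianRing S] (m : Ideal S) [m.IsPrime]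
    (xS : S) (hxS : (xS : L) = x) (hxm : xS ∈ m) :
    IsReduced (AdicCompletion (maximalIdeal (Localization.AtPrime m)) (Localization.AtPrime m)) := by
  classical
  haveI := hR.1
  subst hS
  let S := Algebra.adjoin R ({x} : Set L)
  let Sm := Localization.AtPrime m
  let Ah := AdicCompletion (maximalIdeal Sm) Sm
  haveI : IsNoetherianRing Sm := IsLocalization.isNoetherianRing m.primeCompl _ inferInstance
  haveI : IsNoetherianRing Ah := RegLocal.isNoetherianRing_completion Sm _
  haveI := RegLocal.isLocalRing_completion Sm (maximalIdeal Sm) (maximalIdeal.isMaximal Sm).ne_top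
  have hinj : Function.Injective (algebraMap R L) := IsFractionRing.injective R L
  have hRS : Function.Injective (algebraMap R S) := fun a b h => hinj (congrArg Subtype.val h)
  have hxS0 : xS ≠ 0 := fun h => hx0 (by rw [← hxS, h]; rfl)
  have hdecomp : ∀ s : S, ∃ r : R, s - algebraMap R S r ∈ Ideal.span {xS} := fun s => by
    obtain ⟨p, hp⟩ := mem_adjoin_singleton s.2
    refine ⟨p.coeff 0, Ideal.mem_span_singleton'.2 ⟨aeval xS p.divX, Subtype.ext ?_⟩⟩
    show ((aeval xS p.divX : S) : L) * (xS : L) = (s : L) - algebraMap R L (p.coeff 0)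
    rw [show ((aeval xS p.divX : S) : L) = aeval x p.divX from
      (aeval_algHom_apply S.val xS p.divX).symm.trans (by rw [show S.val xS = x from hxS]), hxS, ← hp]
    have h := congrArg (aeval x) (divX_mul_X_add p)
    rw [map_add, map_mul, aeval_X, aeval_C] at h
    linear_combination h
  obtain ⟨a, b, hb, hab⟩ := IsFractionRing.div_surjective R x
  have ha : a ≠ 0 := fun h => hx0 (by rw [← hab, h, map_zero, zero_div])
  have hbL : algebraMap R L b ≠ 0 := IsFractionRing.to_map_ne_zero_of_mem_nonZeroDivisors hb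
  have hass : ∀ (p' : Ideal S) [p'.IsPrime], p' ∈ associatedPrimes S (S ⧸ Ideal.span {xS}) →
      IsDiscreteValuationRing (Localization.AtPrime p') := by
    intro p' _ hp'
    let p := p'.comap (algebraMap R S)
    have hxp : xS ∈ p' := by
      have h := hp'.annihilator_le
      rw [Submodule.annihilator_top, Ideal.annihilator_quotient] at h
      exact h (Ideal.mem_span_singleton_self _)
    haveI : IsDiscreteValuationRing (Localization.AtPrime p) := by
      refine isDVR_of_associated (x := a) ha p (isAssociatedPrime_iff.2 ⟨inferInstance, ?_⟩)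
      obtain ⟨-, y, hy⟩ := isAssociatedPrime_iff.1 hp'
      obtain ⟨y, rfl⟩ := Ideal.Quotient.mk_surjective y
      obtain ⟨r0, hr0⟩ := hdecomp y
      refine ⟨Ideal.Quotient.mk _ (r0 * b), Ideal.ext fun u => ?_⟩
      have h1 : algebraMap R S u ∈ p' ↔ algebraMap R S (u * r0) ∈ Ideal.span {xS} := by
        have hcol : algebraMap R S u ∈ p' ↔ algebraMap R S u * y ∈ Ideal.span {xS} := by
          rw [hy, Submodule.mem_colon_singleton, Submodule.mem_bot, ← Ideal.Quotient.eq_zero_iff_mem]
          rfl
        rw [hcol, map_mul]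
        have h2 : algebraMap R S u * y - algebraMap R S u * algebraMap R S r0 ∈ Ideal.span {xS} := by
          rw [← mul_sub]; exact Ideal.mul_mem_left _ _ hr0
        exact ⟨fun h => by simpa using sub_mem h h2, fun h => by simpa using add_mem h2 h⟩
      have h3 : u ∈ Submodule.colon (⊥ : Submodule R (R ⧸ Ideal.span {a})) {Ideal.Quotient.mk _ (r0 * b)} ↔
          u * (r0 * b) ∈ Ideal.span {a} := by
        rw [Submodule.mem_colon_singleton, Submodule.mem_bot, ← Ideal.Quotient.eq_zero_iff_mem]
        rfl
      rw [h3, Ideal.mem_span_singleton']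
      refine h1.trans ⟨fun h => ?_, fun h => ?_⟩
      · obtain ⟨s, hs⟩ := Ideal.mem_span_singleton'.1 h
        obtain ⟨r', hr'⟩ := exists_eq_mul_of_mul_adjoin (x := x) (u * r0) s.2
          (show algebraMap R L (u * r0) = x * (s : L) by
            rw [← hxS]
            exact (show algebraMap R L (u * r0) = (s : L) * (xS : L) from (congrArg Subtype.val hs).symm).trans (mul_comm _ _)) hx0
        refine ⟨r', hinj ?_⟩
        rw [← mul_assoc, map_mul _ (u * r0) b, hr', ← hab, map_mul, div_mul_eq_mul_div, div_mul_cancel₀ _ hbL, mul_comm]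
      · obtain ⟨r', hr'⟩ := h
        refine Ideal.mem_span_singleton'.2 ⟨algebraMap R S r', Subtype.ext ?_⟩
        show algebraMap R L r' * (xS : L) = algebraMap R L (u * r0)
        rw [hxS, ← hab, mul_div, div_eq_iff hbL, ← map_mul, ← map_mul, hr', mul_assoc]
    -- `R_p ≅ S_{p'}`
    have hfrac : ∀ s : S, ∃ r t : R, t ∉ p ∧ s * algebraMap R S t = algebraMap R S r := by
      have hx' : ∃ r t : R, t ∉ p ∧ x * algebraMap R L t = algebraMap R L r := by
        let Rp := Localization.AtPrime p
        letI : Algebra Rp L := IsLocalization.localizationAlgebraOfSubmonoidLe Rp L p.primeCompl (nonZeroDivisors R)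
          p.primeCompl_le_nonZeroDivisors
        haveI : IsScalarTower R Rp L := IsLocalization.localization_isScalarTower_of_submonoid_le Rp L p.primeCompl
          (nonZeroDivisors R) p.primeCompl_le_nonZeroDivisors
        haveI : IsFractionRing Rp L := IsFractionRing.isFractionRing_of_isDomain_of_isLocalization p.primeCompl Rp L
        rcases ValuationRing.isInteger_or_isInteger Rp (K := L) x with h | h
        all_goals
          obtain ⟨w, hw⟩ := h
          obtain ⟨r, t, rfl⟩ := IsLocalization.exists_mk'_eq p.primeCompl w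
          have h2 : algebraMap Rp L (IsLocalization.mk' Rp r t) * algebraMap R L (t : R) = algebraMap R L r := by
            rw [IsScalarTower.algebraMap_apply R Rp L, IsScalarTower.algebraMap_apply R Rp L r, ← map_mul,
              IsLocalization.mk'_spec]
          rw [hw] at h2
        · exact ⟨r, t, t.2, h2⟩
        · exfalso
          rw [inv_mul_eq_iff_eq_mul₀ hx0] at h2
          have h3 : algebraMap R S (t : R) = xS * algebraMap R S r := Subtype.ext (by
            show algebraMap R L (t : R) = (xS : L) * algebraMap R L r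
            rw [hxS, h2])
          exact t.2 (show algebraMap R S (t : R) ∈ p' by rw [h3]; exact Ideal.mul_mem_right _ _ hxp)
      obtain ⟨r1, t1, ht1, hx1⟩ := hx'
      rintro ⟨s, hs⟩
      suffices h : ∃ r t : R, t ∉ p ∧ s * algebraMap R L t = algebraMap R L r by
        obtain ⟨r, t, ht, h⟩ := h
        exact ⟨r, t, ht, Subtype.ext h⟩
      induction hs using Algebra.adjoin_induction with
      | mem s hs => obtain rfl := hs; exact ⟨r1, t1, ht1, hx1⟩
      | algebraMap r => exact ⟨r, 1, fun h => (inferInstance : p.IsPrime).ne_top ((Ideal.eq_top_iff_one _).2 h), by rw [map_one, mul_one]⟩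
      | add u v _ _ hu hv =>
        obtain ⟨r, t, ht, h⟩ := hu
        obtain ⟨r', t', ht', h'⟩ := hv
        refine ⟨r * t' + r' * t, t * t', fun hh => ((inferInstance : p.IsPrime).mem_or_mem hh).elim ht ht', ?_⟩
        rw [map_mul, map_add, map_mul, map_mul, ← h, ← h']; ring
      | mul u v _ _ hu hv =>
        obtain ⟨r, t, ht, h⟩ := hu
        obtain ⟨r', t', ht', h'⟩ := hv
        refine ⟨r * r', t * t', fun hh => ((inferInstance : p.IsPrime).mem_or_mem hh).elim ht ht', ?_⟩
        rw [map_mul, map_mul, ← h, ← h']; ring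
    let ψ : Localization.AtPrime p →+* Localization.AtPrime p' := Localization.localRingHom p p' (algebraMap R S) rfl
    have hψi : Function.Injective ψ := (injective_iff_map_eq_zero ψ).2 fun z hz => by
      obtain ⟨r, t, rfl⟩ := IsLocalization.exists_mk'_eq p.primeCompl z
      rw [Localization.localRingHom_mk', IsLocalization.mk'_eq_zero_iff] at hz
      obtain ⟨c, hc⟩ := hz
      have hc0 : (c : S) ≠ 0 := fun h => c.2 (h ▸ p'.zero_mem)
      rw [hRS ((mul_eq_zero.1 hc).resolve_left hc0 |>.trans (map_zero _).symm), IsLocalization.mk'_zero]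
    have hψs : Function.Surjective ψ := fun w => by
      obtain ⟨s, s', rfl⟩ := IsLocalization.exists_mk'_eq p'.primeCompl w
      obtain ⟨r, t, ht, h⟩ := hfrac s
      obtain ⟨r', t', ht', h'⟩ := hfrac (s' : S)
      have hr' : r' ∉ p := fun hh => ((inferInstance : p'.IsPrime).mem_or_mem
        (show (s' : S) * algebraMap R S t' ∈ p' by rw [h']; exact hh)).elim s'.2 ht'
      refine ⟨IsLocalization.mk' _ (r * t') (⟨t * r', fun hh => ((inferInstance : p.IsPrime).mem_or_mem hh).elim ht hr'⟩ : p.primeCompl), ?_⟩
      rw [Localization.localRingHom_mk']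
      refine IsLocalization.mk'_eq_iff_eq.2 (congrArg _ ?_)
      show (s' : S) * algebraMap R S (r * t') = algebraMap R S (t * r') * s
      rw [map_mul, map_mul, ← h, ← h']; ring
    exact IsDiscreteValuationRing.RingEquivClass.isDiscreteValuationRing (RingEquiv.ofBijective ψ ⟨hψi, hψs⟩)
  haveI : Module.Flat Sm Ah := inferInstance
  refine isReduced_of_flat (S := Sm) (algebraMap S Sm xS)
    (fun h => hxS0 (IsLocalization.injective Sm m.primeCompl_le_nonZeroDivisors (h.trans (map_zero _).symm))) ?_ fun P _ hP => ?_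
  · refine maximalIdeal_le_jacobson _ ?_
    rw [RegLocal.maximalIdeal_completion Sm (maximalIdeal Sm) (maximalIdeal.isMaximal Sm).ne_top]
    exact Ideal.mem_map_of_mem _ ((IsLocalization.AtPrime.to_map_mem_maximal_iff Sm m xS).2 hxm)
  let p' := P.comap (algebraMap S Sm)
  have hp'ass := comap_mem_associatedPrimes m.primeCompl xS P hP
  haveI hdvr := hass p' hp'ass
  constructor
  · haveI : IsLocalization.AtPrime (Localization.AtPrime P) p' :=
      IsLocalization.isLocalization_isLocalization_atPrime_isLocalization m.primeCompl (Localization.AtPrime P) P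
    exact IsDiscreteValuationRing.RingEquivClass.isDiscreteValuationRing
      (IsLocalization.algEquiv p'.primeCompl (Localization.AtPrime p') (Localization.AtPrime P)).toRingEquiv
  · refine isReduced_completion_quot P (isNagata_of_fractions ((Ideal.Quotient.mk P).comp ((algebraMap S Sm).comp (algebraMap R S))) hR fun c => ?_)
    obtain ⟨z, rfl⟩ := Ideal.Quotient.mk_surjective c
    obtain ⟨s, u, rfl⟩ := IsLocalization.exists_mk'_eq m.primeCompl z
    have hxP : algebraMap S Sm xS ∈ P := by
      have h := hP.annihilator_le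
      rw [Submodule.annihilator_top, Ideal.annihilator_quotient] at h
      exact h (Ideal.mem_span_singleton_self _)
    have hmod : ∀ s : S, ∃ r : R, Ideal.Quotient.mk P (algebraMap S Sm s) =
        Ideal.Quotient.mk P (algebraMap S Sm (algebraMap R S r)) := fun s => by
      obtain ⟨r, hr⟩ := hdecomp s
      refine ⟨r, Ideal.Quotient.eq.2 ?_⟩
      rw [← map_sub]
      obtain ⟨q, hq⟩ := Ideal.mem_span_singleton'.1 hr
      rw [← hq, map_mul]
      exact Ideal.mul_mem_left _ _ hxP
    obtain ⟨r, hr⟩ := hmod s
    obtain ⟨r', hr'⟩ := hmod u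
    refine ⟨r, r', ?_, ?_⟩
    · show IsUnit (Ideal.Quotient.mk P (algebraMap S Sm (algebraMap R S r')))
      rw [← hr']
      exact (IsLocalization.map_units Sm u).map _
    · show _ * Ideal.Quotient.mk P (algebraMap S Sm (algebraMap R S r')) = Ideal.Quotient.mk P (algebraMap S Sm (algebraMap R S r))
      rw [← hr', ← hr, ← map_mul, IsLocalization.mk'_spec]

end Groth.Agent.NagataLib
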