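import Groth.Agent.NagataLib.Finite

/-!
# Polynomial rings and finite type algebras over Nagata rings
-/

set_option autoImplicit false
set_option backward.isDefEq.respectTransparency false
set_option maxHeartbeats 1000000
universe u
open Polynomial

noncomputable section

namespace Groth.Agent.NagataLib

/-- An algebraic monogenic domain extension of a Nagata domain is N-2. -/
theorem isN2_of_monogenic {R C : Type u} [CommRing R] [IsDomain R] [CommRing C] [IsDomain C] [Algebra R C]
    (hR : CAlg.IsNagata R) (hinj : Function.Injective (algebraMap R C)) (α : C)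
    (hgen : Algebra.adjoin R ({α} : Set C) = ⊤) (halg : IsAlgebraic R α) : CAlg.IsN2 C := by
  classical
  haveI := hR.1
  intro L _ _ _ _ hfin
  let K := FractionRing R
  let KC := FractionRing C
  haveI : IsNoetherianRing C := by
    haveI : Algebra.FiniteType R C := ⟨⟨{α}, by rw [Finset.coe_singleton, hgen]⟩⟩
    exact Algebra.FiniteType.isNoetherianRing R C
  have hK : Function.Injective (algebraMap R KC) := by
    rw [IsScalarTower.algebraMap_eq R C KC]
    exact (IsFractionRing.injective C KC).comp hinj
  letI aK : Algebra K KC := (IsFractionRing.lift hK).toAlgebra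
  haveI : IsScalarTower R K KC := IsScalarTower.of_algebraMap_eq fun r => (IsFractionRing.lift_algebraMap hK r).symm
  haveI : FiniteDimensional K KC := by
    let a : KC := algebraMap C KC α
    have hint : IsIntegral K a :=
      (IsAlgebraic.extendScalars (IsFractionRing.injective R K) (halg.algHom (IsScalarTower.toAlgHom R C KC))).isIntegral
    haveI := IntermediateField.adjoin.finiteDimensional hint
    have htop : IntermediateField.adjoin K ({a} : Set KC) = ⊤ := by
      rw [eq_top_iff]
      rintro z -
      obtain ⟨c, d, -, rfl⟩ := IsFractionRing.div_surjective C z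
      have hC : ∀ c : C, algebraMap C KC c ∈ IntermediateField.adjoin K ({a} : Set KC) := fun c => by
        have hc : c ∈ Algebra.adjoin R ({α} : Set C) := by rw [hgen]; trivial
        induction hc using Algebra.adjoin_induction with
        | mem w hw => obtain rfl := hw; exact IntermediateField.subset_adjoin K _ rfl
        | algebraMap r =>
          rw [← IsScalarTower.algebraMap_apply R C KC, IsScalarTower.algebraMap_apply R K KC]
          exact IntermediateField.algebraMap_mem _ _
        | add u v _ _ hu hv => rw [map_add]; exact add_mem hu hv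
        | mul u v _ _ hu hv => rw [map_mul]; exact mul_mem hu hv
      exact div_mem (hC c) (hC d)
    exact Module.Finite.equiv ((IntermediateField.equivOfEq htop).trans IntermediateField.topEquiv).toLinearEquiv
  letI : Algebra R L := ((algebraMap C L).comp (algebraMap R C)).toAlgebra
  haveI : IsScalarTower R C L := IsScalarTower.of_algebraMap_eq fun _ => rfl
  letI : Algebra K L := ((algebraMap KC L).comp (algebraMap K KC)).toAlgebra
  haveI : IsScalarTower K KC L := IsScalarTower.of_algebraMap_eq fun _ => rfl
  haveI := hfin
  haveI : FiniteDimensional K L := Module.Finite.trans KC L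
  haveI : IsScalarTower R K L := IsScalarTower.of_algebraMap_eq fun r => by
    show algebraMap C L (algebraMap R C r) = algebraMap KC L (algebraMap K KC (algebraMap R K r))
    rw [← IsScalarTower.algebraMap_apply R K KC, IsScalarTower.algebraMap_apply R C KC,
      ← IsScalarTower.algebraMap_apply C KC L]
  let R' := integralClosure R L
  haveI : Module.Finite R R' := N2Lib.finite_of_isN2 (show CAlg.IsN2 R from
    NagataCompleteLib.isN2_of_ringEquiv (RingEquiv.quotientBot R) (hR.2 ⊥)) K L
  haveI : IsFractionRing R' L := integralClosure.isFractionRing_of_finite_extension K L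
  haveI : IsIntegrallyClosed R' := integralClosure.isIntegrallyClosedOfFiniteExtension K
  let a : L := algebraMap C L α
  let S' := Algebra.adjoin R' ({a} : Set L)
  have hA := finite_integralClosure_adjoin (isNagata_of_finite hR : CAlg.IsNagata R') a
  obtain ⟨G, hG⟩ := (Module.Finite.fg_top : (⊤ : Submodule R R').FG)
  obtain ⟨T, hT⟩ := hA.fg_top
  let U : Subalgebra C L := Algebra.adjoin C (Subtype.val '' (G : Set R'))
  haveI : Module.Finite C U := by
    refine Module.Finite.iff_fg.2 (fg_adjoin_of_finite (G.finite_toSet.image _) ?_)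
    rintro _ ⟨g, -, rfl⟩
    exact (g.2 : IsIntegral R (g : L)).tower_top
  have hR'U : ∀ r : R', (r : L) ∈ U := fun r => by
    have hr : r ∈ Submodule.span R (G : Set R') := by rw [hG]; trivial
    induction hr using Submodule.span_induction with
    | mem g hg => exact Algebra.subset_adjoin ⟨g, hg, rfl⟩
    | zero => exact U.zero_mem
    | add u v _ _ hu hv => exact U.add_mem hu hv
    | smul c u _ hu =>
      rw [show ((c • u : R') : L) = c • (u : L) from rfl, Algebra.smul_def, IsScalarTower.algebraMap_apply R C L]
      exact U.mul_mem (U.algebraMap_mem _) hu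
  have hS'U : ∀ z ∈ S', z ∈ U := fun z hz => by
    induction hz using Algebra.adjoin_induction with
    | mem z hz => obtain rfl := hz; exact U.algebraMap_mem α
    | algebraMap r => exact hR'U r
    | add u v _ _ hu hv => exact U.add_mem hu hv
    | mul u v _ _ hu hv => exact U.mul_mem hu hv
  haveI : Algebra.IsIntegral C U := Algebra.IsIntegral.of_finite C U
  have hA'int : ∀ z : L, IsIntegral S' z → IsIntegral C z := fun z hz => by
    let g : S' →+* U := { toFun := fun w => ⟨w.1, hS'U _ w.2⟩, map_one' := rfl, map_mul' := fun _ _ => rfl,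
                          map_zero' := rfl, map_add' := fun _ _ => rfl }
    obtain ⟨p, hp, hpz⟩ := hz
    exact isIntegral_trans (A := U) z ⟨p.map g, hp.map g, by rw [eval₂_map]; exact hpz⟩
  let W : Subalgebra C L := Algebra.adjoin C (Subtype.val '' (G : Set R') ∪ Subtype.val '' (T : Set (integralClosure S' L)))
  haveI : Module.Finite C W := by
    refine Module.Finite.iff_fg.2 (fg_adjoin_of_finite ((G.finite_toSet.image _).union (T.finite_toSet.image _)) ?_)
    rintro _ (⟨g, -, rfl⟩ | ⟨t, -, rfl⟩)
    · exact (g.2 : IsIntegral R (g : L)).tower_top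
    · exact hA'int _ t.2
  have hUW : U ≤ W := Algebra.adjoin_mono Set.subset_union_left
  have hCS : ∀ c : C, algebraMap C L c ∈ S' := fun c => by
    have hc : c ∈ Algebra.adjoin R ({α} : Set C) := by rw [hgen]; trivial
    induction hc using Algebra.adjoin_induction with
    | mem w hw => obtain rfl := hw; exact Algebra.subset_adjoin rfl
    | algebraMap r =>
      rw [← IsScalarTower.algebraMap_apply R C L, IsScalarTower.algebraMap_apply R R' L]
      exact Subalgebra.algebraMap_mem _ _
    | add u v _ _ hu hv => rw [map_add]; exact add_mem hu hv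
    | mul u v _ _ hu hv => rw [map_mul]; exact mul_mem hu hv
  have hle : ∀ y : L, IsIntegral C y → y ∈ W := fun y hy => by
    obtain ⟨p, hp, hpy⟩ := hy
    let h : C →+* S' := (algebraMap C L).codRestrict S' hCS
    have hy' : IsIntegral S' y := ⟨p.map h, hp.map h, by rw [eval₂_map]; exact hpy⟩
    have hmem : (⟨y, hy'⟩ : integralClosure S' L) ∈ Submodule.span S' (T : Set (integralClosure S' L)) := by
      rw [hT]; trivial
    suffices ∀ w ∈ Submodule.span S' (T : Set (integralClosure S' L)), (w : L) ∈ W from this _ hmem
    intro w hw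
    induction hw using Submodule.span_induction with
    | mem t ht => exact Algebra.subset_adjoin (Or.inr ⟨t, ht, rfl⟩)
    | zero => exact W.zero_mem
    | add u v _ _ hu hv => exact W.add_mem hu hv
    | smul s u _ hu =>
      rw [show ((s • u : integralClosure S' L) : L) = (s : L) * (u : L) from rfl]
      exact W.mul_mem (hUW (hS'U _ s.2)) hu
  haveI : IsNoetherian C W := isNoetherian_of_isNoetherianRing_of_finite _ _
  have hle' : integralClosure C L ≤ W := fun y hy => hle y hy
  exact Module.Finite.of_injective (Subalgebra.inclusion hle').toLinearMap (Subalgebra.inclusion_injective hle')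

/-- Polynomial rings over Nagata rings are Nagata. -/
theorem isNagata_polynomial {R : Type u} [CommRing R] (hR : CAlg.IsNagata R) : CAlg.IsNagata R[X] := by
  haveI := hR.1
  refine ⟨inferInstance, fun P _ => ?_⟩
  let p := P.comap (C : R →+* R[X])
  let R1 := R ⧸ p
  have hR1 : CAlg.IsNagata R1 := isNagata_of_surjective (Ideal.Quotient.mk p) Ideal.Quotient.mk_surjective hR
  let φ : R[X] →+* R1[X] := mapRingHom (Ideal.Quotient.mk p)
  have hφ : Function.Surjective φ := map_surjective _ Ideal.Quotient.mk_surjective
  have hker : RingHom.ker φ ≤ P := fun g hg => by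
    rw [g.as_sum_support_C_mul_X_pow]
    refine Ideal.sum_mem _ fun i _ => P.mul_mem_right _ ?_
    show g.coeff i ∈ p
    have h1 : (g.map (Ideal.Quotient.mk p)).coeff i = 0 := by rw [show g.map (Ideal.Quotient.mk p) = 0 from hg, coeff_zero]
    rw [coeff_map, Ideal.Quotient.eq_zero_iff_mem] at h1
    exact h1
  by_cases hP : P ≤ RingHom.ker φ
  · exact NagataCompleteLib.isN2_of_ringEquiv ((Ideal.quotEquivOfEq (le_antisymm hP hker)).trans
      (RingHom.quotientKerEquivOfSurjective (f := φ) hφ)).symm
      (isN2_polynomial R1 (NagataCompleteLib.isN2_of_ringEquiv (RingEquiv.quotientBot R1) (hR1.2 ⊥)))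
  · obtain ⟨g, hgP, hg⟩ := Set.not_subset.1 hP
    letI : Algebra R1 (R[X] ⧸ P) := (Ideal.quotientMap P (C : R →+* R[X]) le_rfl).toAlgebra
    haveI : IsScalarTower R R1 (R[X] ⧸ P) := IsScalarTower.of_algebraMap_eq fun r => rfl
    refine isN2_of_monogenic hR1 Ideal.quotientMap_injective (Ideal.Quotient.mk P X) ?_ ⟨φ g, hg, ?_⟩
    · rw [eq_top_iff]
      rintro c -
      obtain ⟨q, rfl⟩ := Ideal.Quotient.mk_surjective c
      have h := aeval_algHom_apply (Ideal.Quotient.mkₐ R P) X q
      rw [aeval_X_left_apply] at h
      rw [show Ideal.Quotient.mk P q = Ideal.Quotient.mkₐ R P q from rfl, ← h, ← aeval_map_algebraMap R1]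
      exact aeval_mem_adjoin_singleton R1 _
    · show aeval (Ideal.Quotient.mk P X) (g.map (algebraMap R R1)) = 0
      rw [aeval_map_algebraMap]
      have h := aeval_algHom_apply (Ideal.Quotient.mkₐ R P) X g
      rw [aeval_X_left_apply] at h
      exact h.trans (Ideal.Quotient.eq_zero_iff_mem.2 hgP)

theorem isNagata_mvPolynomial {R : Type u} [CommRing R] (hR : CAlg.IsNagata R) :
    ∀ n : ℕ, CAlg.IsNagata (MvPolynomial (Fin n) R)
  | 0 => isNagata_of_surjective MvPolynomial.C (MvPolynomial.C_surjective (Fin 0)) hR
  | n + 1 => isNagata_of_surjective (MvPolynomial.finSuccEquiv R n).symm.toRingEquiv.toRingHom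
      (MvPolynomial.finSuccEquiv R n).symm.surjective (isNagata_polynomial (isNagata_mvPolynomial hR n))

theorem isNagata_of_finiteType {R S : Type u} [CommRing R] [CommRing S] [Algebra R S] [Algebra.FiniteType R S]
    (hR : CAlg.IsNagata R) : CAlg.IsNagata S := by
  obtain ⟨n, f, hf⟩ := Algebra.FiniteType.iff_quotient_mvPolynomial''.1 (inferInstance : Algebra.FiniteType R S)
  exact isNagata_of_surjective f.toRingHom hf (isNagata_mvPolynomial hR n)

end Groth.Agent.NagataLib
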