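import Mathlib
import Groth.Prelude.Def_Found
import Groth.Agent.NagataCompleteLib.Tate

/-!
# Power series rings over normal and N-2 domains
-/

set_option autoImplicit false
set_option backward.isDefEq.respectTransparency false
set_option maxHeartbeats 1000000
universe u
open PowerSeries

noncomputable section

namespace Groth.Agent.NagataLib

theorem isAdicComplete_X (A : Type u) [CommRing A] :
    IsAdicComplete (Ideal.span {(PowerSeries.X : PowerSeries A)}) (PowerSeries A) where
  haus' f hf := by
    ext n
    have h := hf (n + 1)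
    rw [SModEq.zero, smul_eq_mul, Ideal.mul_top, Ideal.span_singleton_pow, Ideal.mem_span_singleton,
      PowerSeries.X_pow_dvd_iff] at h
    rw [h n (Nat.lt_succ_self n), map_zero]
  prec' f hf := by
    refine ⟨PowerSeries.mk fun i => coeff i (f (i + 1)), fun n => ?_⟩
    rw [SModEq.sub_mem, smul_eq_mul, Ideal.mul_top, Ideal.span_singleton_pow, Ideal.mem_span_singleton,
      PowerSeries.X_pow_dvd_iff]
    intro i hi
    have h := hf (Nat.succ_le_of_lt hi)
    rw [SModEq.sub_mem, smul_eq_mul, Ideal.mul_top, Ideal.span_singleton_pow, Ideal.mem_span_singleton,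
      PowerSeries.X_pow_dvd_iff] at h
    have h2 := h i (Nat.lt_succ_self i)
    rw [map_sub, sub_eq_zero] at h2
    rw [map_sub, coeff_mk, h2, sub_self]

/-- A series with a denominator for all its powers has integral coefficients. -/
theorem coeff_mem_of_almostIntegral {R K : Type u} [CommRing R] [IsDomain R] [IsNoetherianRing R]
    [IsIntegrallyClosed R] [Field K] [Algebra R K] [IsFractionRing R K] :
    ∀ (i : ℕ) (p : PowerSeries K) (d : PowerSeries R), d ≠ 0 →
      (∀ n : ℕ, ∃ g : PowerSeries R, PowerSeries.map (algebraMap R K) d * p ^ n = PowerSeries.map (algebraMap R K) g) →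
      coeff i p ∈ (algebraMap R K).range := by
  have hinj : Function.Injective (algebraMap R K) := IsFractionRing.injective R K
  let ι := PowerSeries.map (algebraMap R K)
  have hzero : ∀ (p : PowerSeries K) (d : PowerSeries R), d ≠ 0 →
      (∀ n : ℕ, ∃ g, ι d * p ^ n = ι g) → constantCoeff p ∈ (algebraMap R K).range := by
    intro p d hd h
    have hal : IsAlmostIntegral R (constantCoeff p) := by
      refine ⟨coeff d.order.toNat d, mem_nonZeroDivisors_of_ne_zero (coeff_order hd), fun n => ?_⟩
      obtain ⟨g, hg⟩ := h n
      refine ⟨coeff d.order.toNat g, ?_⟩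
      have h2 := congrArg (coeff d.order.toNat) hg
      rw [coeff_mul, Finset.sum_eq_single (d.order.toNat, 0), coeff_map] at h2
      · rw [Algebra.smul_def, ← map_pow, ← coeff_zero_eq_constantCoeff_apply, h2]
        exact (coeff_map _ _ _).symm
      · rintro ⟨a, b⟩ hab hne
        have ha : a < d.order.toNat := by
          rw [Finset.HasAntidiagonal.mem_antidiagonal] at hab
          rcases Nat.eq_zero_or_pos b with rfl | hb
          · exact absurd (by rw [← hab, add_zero] : (a, 0) = (d.order.toNat, 0)) hne
          · omega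
        rw [coeff_map, coeff_of_lt_order_toNat a ha, map_zero, zero_mul]
      · intro hnot
        exact absurd (Finset.HasAntidiagonal.mem_antidiagonal.2 (add_zero _)) hnot
    exact IsIntegrallyClosed.isIntegral_iff.1 hal.isIntegral
  intro i
  induction i with
  | zero => intro p d hd h; rw [coeff_zero_eq_constantCoeff_apply]; exact hzero p d hd h
  | succ i ih =>
    intro p d hd h
    obtain ⟨r, hr⟩ := hzero p d hd h
    -- remove the constant term
    have hsub : ∀ n : ℕ, ∃ g, ι d * (p - PowerSeries.C (constantCoeff p)) ^ n = ι g := by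
      intro n
      have hA : ∀ (m n : ℕ), ∃ g, ι d * (p - PowerSeries.C (constantCoeff p)) ^ n * p ^ m = ι g := by
        intro m n
        induction n generalizing m with
        | zero =>
          obtain ⟨g, hg⟩ := h m
          exact ⟨g, by rw [pow_zero, mul_one, hg]⟩
        | succ n ihn =>
          obtain ⟨g1, hg1⟩ := ihn (m + 1)
          obtain ⟨g2, hg2⟩ := ihn m
          refine ⟨g1 - PowerSeries.C r * g2, ?_⟩
          rw [map_sub, map_mul, show ι (PowerSeries.C r) = PowerSeries.C (constantCoeff p) by rw [← hr]; exact PowerSeries.map_C _ _,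
            ← hg1, ← hg2]
          ring
      obtain ⟨g, hg⟩ := hA 0 n
      exact ⟨g, by rw [← hg, pow_zero, mul_one]⟩
    obtain ⟨p', hp'⟩ := PowerSeries.X_dvd_iff.2
      (show constantCoeff (p - PowerSeries.C (constantCoeff p)) = 0 by rw [map_sub, constantCoeff_C, sub_self])
    have hcoeff : coeff (i + 1) p = coeff i p' := by
      have h2 := congrArg (coeff (i + 1)) hp'
      rw [map_sub, coeff_succ_X_mul, coeff_C, if_neg (Nat.succ_ne_zero i), sub_zero] at h2
      exact h2
    rw [hcoeff]
    refine ih p' d hd fun n => ?_
    obtain ⟨g, hg⟩ := hsub n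
    rw [hp', mul_pow, mul_left_comm] at hg
    have hg0 : ∀ j < n, coeff j g = 0 := fun j hj => by
      have h2 := congrArg (coeff j) hg
      rw [coeff_map, PowerSeries.X_pow_dvd_iff.1 (dvd_mul_right _ _) j hj] at h2
      exact hinj (by rw [map_zero]; exact h2.symm)
    obtain ⟨g', rfl⟩ := PowerSeries.X_pow_dvd_iff.2 hg0
    refine ⟨g', mul_left_cancel₀ (pow_ne_zero n PowerSeries.X_ne_zero) ?_⟩
    rw [hg, map_mul, map_pow, PowerSeries.map_X]

theorem isIntegrallyClosed_powerSeries_aux {R K F G : Type u} [CommRing R] [IsDomain R] [IsNoetherianRing R]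
    [IsIntegrallyClosed R] [Field K] [Algebra R K] [IsFractionRing R K] [Field F] [Algebra (PowerSeries R) F]
    [IsFractionRing (PowerSeries R) F] [Field G] [Algebra (PowerSeries K) G] [IsFractionRing (PowerSeries K) G]
    [IsIntegrallyClosed (PowerSeries K)] (z : F) (hz : IsIntegral (PowerSeries R) z) :
    ∃ y, algebraMap (PowerSeries R) F y = z := by
  let ι := PowerSeries.map (algebraMap R K)
  have hι : Function.Injective ι := fun a b h => PowerSeries.ext fun i => IsFractionRing.injective R K (by
    rw [← coeff_map, ← coeff_map]; exact congrArg (coeff i) h)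
  have hinj : Function.Injective ((algebraMap (PowerSeries K) G).comp ι) :=
    (IsFractionRing.injective (PowerSeries K) G).comp hι
  let g : F →+* G := IsFractionRing.lift hinj
  obtain ⟨d, hd, hdz⟩ := hz.isAlmostIntegral
  obtain ⟨q, hq, hqz⟩ := hz
  have hgi : IsIntegral (PowerSeries K) (g z) := ⟨q.map ι, hq.map ι, by
    rw [Polynomial.eval₂_map, show (algebraMap (PowerSeries K) G).comp ι = g.comp (algebraMap (PowerSeries R) F) from
      RingHom.ext fun a => (IsFractionRing.lift_algebraMap hinj a).symm, ← Polynomial.hom_eval₂, hqz, map_zero]⟩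
  obtain ⟨p, hp⟩ := (IsIntegrallyClosed.isIntegral_iff (R := PowerSeries K) (K := G)).1 hgi
  have hpow : ∀ n : ℕ, ∃ e : PowerSeries R, ι d * p ^ n = ι e := fun n => by
    obtain ⟨e, he⟩ := hdz n
    refine ⟨e, IsFractionRing.injective (PowerSeries K) G ?_⟩
    rw [map_mul, map_pow, hp, ← map_pow]
    have h1 := congrArg g he
    rw [IsFractionRing.lift_algebraMap, Algebra.smul_def, map_mul, IsFractionRing.lift_algebraMap] at h1
    exact h1.symm
  have hc := fun i => coeff_mem_of_almostIntegral i p d (nonZeroDivisors.ne_zero hd) hpow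
  choose c hc using hc
  refine ⟨PowerSeries.mk c, g.injective ?_⟩
  rw [IsFractionRing.lift_algebraMap, ← hp]
  show algebraMap (PowerSeries K) G (ι (PowerSeries.mk c)) = _
  congr 1
  ext i
  rw [coeff_map, coeff_mk, hc]

theorem isIntegrallyClosed_field_powerSeries (K : Type u) [Field K] : IsIntegrallyClosed (PowerSeries K) :=
  UniqueFactorizationMonoid.instIsIntegrallyClosed

/-- Power series over a Noetherian normal domain form a normal domain. -/
theorem isIntegrallyClosed_powerSeries (R : Type u) [CommRing R] [IsDomain R] [IsNoetherianRing R]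
    [IsIntegrallyClosed R] : IsIntegrallyClosed (PowerSeries R) := by
  haveI := isIntegrallyClosed_field_powerSeries (FractionRing R)
  exact (isIntegrallyClosed_iff (FractionRing (PowerSeries R))).2 fun {z} hz =>
    isIntegrallyClosed_powerSeries_aux (K := FractionRing R) (G := FractionRing (PowerSeries (FractionRing R))) z hz

/-- Tate: power series over a normal N-2 domain are N-2. -/
theorem isN2_powerSeries (R : Type u) [CommRing R] [IsDomain R] [IsNoetherianRing R] [IsIntegrallyClosed R]
    (h : CAlg.IsN2 R) : CAlg.IsN2 (PowerSeries R) := by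
  haveI := isIntegrallyClosed_powerSeries R
  let P := PowerSeries R
  let ρ : P →+* R := PowerSeries.constantCoeff
  have hρ : Function.Surjective ρ := fun r => ⟨PowerSeries.C r, PowerSeries.constantCoeff_C r⟩
  have hker : Ideal.span ({PowerSeries.X} : Set P) = RingHom.ker ρ := by
    ext f
    rw [Ideal.mem_span_singleton, RingHom.mem_ker, PowerSeries.X_dvd_iff]
  haveI : (Ideal.span ({PowerSeries.X} : Set P)).IsPrime := by rw [hker]; exact RingHom.ker_isPrime ρ
  haveI := isAdicComplete_X R
  exact NagataCompleteLib.tate P PowerSeries.X (NagataCompleteLib.isN2_of_ringEquiv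
    ((RingHom.quotientKerEquivOfSurjective hρ).symm.trans (Ideal.quotEquivOfEq hker.symm)) h)

end Groth.Agent.NagataLib
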