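import Groth.Agent.NagataLib.Main

/-!
# Algebras of finite type over Nagata rings are Nagata
-/

set_option autoImplicit false
set_option backward.isDefEq.respectTransparency false
set_option maxHeartbeats 1000000
universe u
open IsLocalRing Polynomial

noncomputable section

namespace Groth.Agent.NagataLib

theorem isNoetherianRing_adjoin {R L : Type u} [CommRing R] [IsNoetherianRing R] [CommRing L] [Algebra R L] (x : L) :
    IsNoetherianRing (Algebra.adjoin R ({x} : Set L)) :=
  haveI : Algebra.FiniteType R (Algebra.adjoin R ({x} : Set L)) :=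
    Algebra.FiniteType.adjoin_of_finite (Set.finite_singleton x)
  Algebra.FiniteType.isNoetherianRing R _

/-- Local finiteness from analytic unramifiedness. -/
theorem locFin_of_reduced {R L : Type u} [CommRing R] [IsDomain R] [Field L] [Algebra R L] [IsFractionRing R L]
    (S : Subalgebra R L) [IsNoetherianRing S] (m : Ideal S) [m.IsPrime]
    [IsReduced (AdicCompletion (maximalIdeal (Localization.AtPrime m)) (Localization.AtPrime m))] :
    LocFin S L m := by
  haveI : IsFractionRing S L := IsFractionRing.of_field S L fun z => by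
    obtain ⟨a, b, -, rfl⟩ := IsFractionRing.div_surjective R z
    exact ⟨algebraMap R S a, algebraMap R S b, rfl⟩
  haveI : IsNoetherianRing (Localization.AtPrime m) := IsLocalization.isNoetherianRing m.primeCompl _ inferInstance
  exact locFin_of_isN1 m isN1_of_isReduced_completion

/-- Descent of local finiteness along a finite extension. -/
theorem locFin_descend {S S' L L' : Type u} [CommRing S] [IsNoetherianRing S] [CommRing S'] [Algebra S S']
    [Module.Finite S S'] [Field L] [Field L'] [Algebra S L] [Algebra S' L'] [Algebra S L'] [Algebra L L']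
    [IsScalarTower S L L'] [IsScalarTower S S' L'] (m : Ideal S) [m.IsPrime]
    (h : ∀ M : Ideal S', M.IsPrime → M.comap (algebraMap S S') = m → LocFin S' L' M) : LocFin S L m := by
  classical
  haveI : Finite ↥(m.primesOver S') := (Algebra.QuasiFinite.finite_primesOver m).to_subtype
  choose MM hMM hMM' using fun M : ↥(m.primesOver S') => h M.1 M.2.1 M.2.2.over.symm
  let N : Submodule S' L' := ⨆ M, MM M
  have hN : N.FG := Submodule.fg_iSup MM hMM
  let NS : Submodule S L' := N.restrictScalars S
  have hNS : NS.FG := hN.restrictScalars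
  let g : L →ₗ[S] L' := (IsScalarTower.toAlgHom S L L').toLinearMap
  have hgi : Function.Injective g := (algebraMap L L').injective
  haveI : IsNoetherian S NS := isNoetherian_of_fg_of_noetherian NS hNS
  refine ⟨NS.comap g, ?_, fun y hy => ?_⟩
  · refine Submodule.fg_of_fg_map_injective g hgi ?_
    exact isNoetherian_submodule.1 (inferInstance : IsNoetherian S NS) _ (Submodule.map_comap_le _ _)
  have hy' : IsIntegral S' (g y) := (hy.map (IsScalarTower.toAlgHom S L L')).tower_top
  let I : Ideal S' := N.comap (LinearMap.toSpanSingleton S' L' (g y))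
  suffices h : ¬ I.comap (algebraMap S S') ≤ m by
    obtain ⟨t, htI, htm⟩ := Set.not_subset.1 h
    refine ⟨t, htm, ?_⟩
    show g (t • y) ∈ N
    rw [map_smul, ← algebraMap_smul S' t (g y)]
    exact htI
  intro hle
  haveI : Algebra.IsIntegral S S' := Algebra.IsIntegral.of_finite S S'
  obtain ⟨M, hIM, hMp, hMm⟩ := Ideal.exists_ideal_over_prime_of_isIntegral m I hle
  let M' : ↥(m.primesOver S') := ⟨M, hMp, ⟨hMm.symm⟩⟩
  obtain ⟨t, ht, hty⟩ := hMM' M' (g y) hy'
  exact ht (hIM (le_iSup MM M' hty : t • g y ∈ N))

/-- Local finiteness at a prime containing a translate of the generator. -/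
theorem locFin_of_translate {R L : Type u} [CommRing R] [IsDomain R] [IsIntegrallyClosed R] [Field L] [Algebra R L]
    [IsFractionRing R L] (hR : CAlg.IsNagata R) (x : L) (S : Subalgebra R L) (hS : S = Algebra.adjoin R {x})
    (M : Ideal S) [M.IsPrime] (β : R) (z : S) (hz : (z : L) = x - algebraMap R L β) (hzM : z ∈ M) :
    LocFin S L M := by
  classical
  haveI := hR.1
  haveI : IsNoetherianRing S := by rw [hS]; exact isNoetherianRing_adjoin x
  by_cases h0 : x - algebraMap R L β = 0
  · -- degenerate: `S = R`
    haveI : IsReduced (AdicCompletion (maximalIdeal (Localization.AtPrime M)) (Localization.AtPrime M)) := by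
      have hN : CAlg.IsNagata (Localization.AtPrime M) := by
        refine isNagata_of_fractions ((algebraMap S (Localization.AtPrime M)).comp (algebraMap R S)) hR fun c => ?_
        obtain ⟨s, u, rfl⟩ := IsLocalization.exists_mk'_eq M.primeCompl c
        have hsur : ∀ s : S, ∃ r : R, algebraMap R S r = s := fun s => by
          have hs : (s : L) ∈ Algebra.adjoin R {x} := by rw [← hS]; exact s.2
          obtain ⟨p, hp⟩ := mem_adjoin_singleton hs
          refine ⟨p.eval β, Subtype.ext ?_⟩
          rw [← hp, sub_eq_zero.1 h0]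
          exact (aeval_algebraMap_apply_eq_algebraMap_eval (A := L) β p).symm
        obtain ⟨r, hr⟩ := hsur s
        obtain ⟨r', hr'⟩ := hsur u
        refine ⟨r, r', ?_, ?_⟩
        · show IsUnit (algebraMap S (Localization.AtPrime M) (algebraMap R S r'))
          rw [hr']
          exact IsLocalization.map_units _ u
        · show _ * algebraMap S (Localization.AtPrime M) (algebraMap R S r') = algebraMap S (Localization.AtPrime M) (algebraMap R S r)
          rw [hr', hr, IsLocalization.mk'_spec]
      have hle : ((maximalIdeal (Localization.AtPrime M)).map (algebraMap (Localization.AtPrime M) (Localization.AtPrime M))) =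
          maximalIdeal (Localization.AtPrime M) := by rw [Algebra.algebraMap_self, Ideal.map_id]
      exact isReduced_adicCompletion hN _ _ hle.le (k := 1) (by rw [pow_one, hle])
    exact locFin_of_reduced S M
  · have hS' : S = Algebra.adjoin R {x - algebraMap R L β} := by
      rw [hS]
      refine le_antisymm (Algebra.adjoin_le (Set.singleton_subset_iff.2 ?_)) (Algebra.adjoin_le (Set.singleton_subset_iff.2 ?_))
      · have h2 : x - algebraMap R L β + algebraMap R L β ∈ Algebra.adjoin R ({x - algebraMap R L β} : Set L) :=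
          add_mem (Algebra.subset_adjoin rfl) (Subalgebra.algebraMap_mem _ _)
        simpa using h2
      · exact sub_mem (Algebra.subset_adjoin rfl) (Subalgebra.algebraMap_mem _ _)
    haveI := isReduced_completion_of_mem hR h0 S hS' M z hz hzM
    exact locFin_of_reduced S M

/-- A monic polynomial splitting over a normal base has a root translate in each prime containing its value. -/
theorem locFin_of_splits {R' L' : Type u} [CommRing R'] [IsDomain R'] [IsIntegrallyClosed R'] [Field L']
    [Algebra R' L'] [IsFractionRing R' L'] (hR' : CAlg.IsNagata R') (x' : L') (S' : Subalgebra R' L')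
    (hS' : S' = Algebra.adjoin R' {x'}) (xS : S') (hxS : (xS : L') = x') (H : R'[X]) (hH : H.Monic)
    (hs : (H.map (algebraMap R' L')).Splits) (M : Ideal S') [M.IsPrime] (hm : aeval xS H ∈ M) :
    LocFin S' L' M := by
  classical
  have hroots : ∀ b ∈ (H.map (algebraMap R' L')).roots, ∃ β : R', algebraMap R' L' β = b := fun b hb => by
    rw [mem_roots (hH.map _).ne_zero, IsRoot.def, eval_map] at hb
    exact IsIntegrallyClosed.isIntegral_iff.1 ⟨H, hH, hb⟩
  choose β hβ using hroots
  let rs := (H.map (algebraMap R' L')).roots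
  let z : rs.toFinset → S' := fun b => xS - algebraMap R' S' (β b.1 (Multiset.mem_toFinset.1 b.2))
  have hz : ∀ b, (z b : L') = x' - b.1 := fun b => by
    show (xS : L') - algebraMap R' L' _ = _
    rw [hxS, hβ]
  have hprod : aeval xS H = ∏ b, (z b) ^ (rs.count b.1) := by
    refine Subtype.ext ?_
    show S'.val (aeval xS H) = S'.val (∏ b, (z b) ^ (rs.count b.1))
    rw [← aeval_algHom_apply, show S'.val xS = x' from hxS, aeval_def, ← eval_map,
      hs.eval_eq_prod_roots_of_monic (hH.map _), Finset.prod_multiset_map_count, map_prod, ← Finset.prod_coe_sort]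
    refine Finset.prod_congr rfl fun b _ => ?_
    rw [map_pow]
    exact congrArg (fun w => w ^ _) (hz b).symm
  rw [hprod] at hm
  obtain ⟨b, -, hb⟩ := ((inferInstance : M.IsPrime).prod_mem_iff).1 hm
  exact locFin_of_translate hR' x' S' hS' M (β b.1 (Multiset.mem_toFinset.1 b.2)) (z b) ((hz b).trans (by rw [hβ]))
    ((inferInstance : M.IsPrime).mem_of_pow_mem _ hb)

/-- Finiteness of the extension of base rings. -/
theorem finite_adjoin_extension {R R' L L' : Type u} [CommRing R] [IsNoetherianRing R] [CommRing R'] [CommRing L] [CommRing L']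
    [Algebra R R'] [Module.Finite R R'] [Algebra R L] [Algebra R' L'] [Algebra L L'] [Algebra R L']
    [IsScalarTower R R' L'] [IsScalarTower R L L'] (S : Subalgebra R L) [IsNoetherianRing S] (xS : S)
    (ι : S →+* Algebra.adjoin R' ({algebraMap L L' (xS : L)} : Set L'))
    (hι : ∀ s, (ι s : L') = algebraMap L L' (s : L)) : ι.Finite := by
  classical
  let S' := Algebra.adjoin R' ({algebraMap L L' (xS : L)} : Set L')
  letI : Algebra S S' := ι.toAlgebra
  show Module.Finite S S'
  obtain ⟨G, hG⟩ := (Module.Finite.fg_top : (⊤ : Submodule R R').FG)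
  let U : Subalgebra S S' := Algebra.adjoin S (algebraMap R' S' '' (G : Set R'))
  have hR : ∀ r : R, ι (algebraMap R S r) = algebraMap R' S' (algebraMap R R' r) := fun r => Subtype.ext (by
    rw [hι]
    show algebraMap L L' (algebraMap R L r) = algebraMap R' L' (algebraMap R R' r)
    rw [← IsScalarTower.algebraMap_apply R L L', ← IsScalarTower.algebraMap_apply R R' L'])
  haveI : Module.Finite S U := by
    refine Module.Finite.iff_fg.2 (fg_adjoin_of_finite (G.finite_toSet.image _) ?_)
    rintro _ ⟨g, -, rfl⟩
    obtain ⟨p, hp, hpg⟩ := Algebra.IsIntegral.isIntegral (R := R) g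
    refine ⟨p.map (algebraMap R S), hp.map _, ?_⟩
    rw [eval₂_map, show (algebraMap S S').comp (algebraMap R S) = (algebraMap R' S').comp (algebraMap R R') from RingHom.ext hR,
      ← hom_eval₂, hpg, map_zero]
  have hR'U : ∀ r : R', algebraMap R' S' r ∈ U := fun r => by
    have hr : r ∈ Submodule.span R (G : Set R') := by rw [hG]; trivial
    induction hr using Submodule.span_induction with
    | mem g hg => exact Algebra.subset_adjoin ⟨g, hg, rfl⟩
    | zero => rw [map_zero]; exact U.zero_mem
    | add a b _ _ ha hb => rw [map_add]; exact U.add_mem ha hb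
    | smul c a _ ha =>
      rw [Algebra.smul_def, map_mul, ← hR]
      exact U.mul_mem (U.algebraMap_mem (algebraMap R S c)) ha
  have htop : U = ⊤ := by
    rw [eq_top_iff]
    rintro ⟨w, hw⟩ -
    induction hw using Algebra.adjoin_induction with
    | mem w hw =>
      have e : (⟨w, Algebra.subset_adjoin hw⟩ : S') = algebraMap S S' xS := Subtype.ext (hw.trans (hι xS).symm)
      rw [e]
      exact U.algebraMap_mem _
    | algebraMap r => exact hR'U r
    | add a b _ _ ha hb => exact U.add_mem ha hb
    | mul a b _ _ ha hb => exact U.mul_mem ha hb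
  exact Module.Finite.of_surjective U.val.toLinearMap fun w => ⟨⟨w, htop ▸ Algebra.mem_top⟩, rfl⟩

/-- Local finiteness at a prime where `x` satisfies a monic equation. -/
theorem locFin_of_monic {R L : Type u} [CommRing R] [IsDomain R] [IsIntegrallyClosed R] [Field L] [Algebra R L]
    [IsFractionRing R L] (hR : CAlg.IsNagata R) (x : L) (S : Subalgebra R L) (hS : S = Algebra.adjoin R {x})
    (m : Ideal S) [m.IsPrime] (H : R[X]) (hH : H.Monic) (xS : S) (hxS : (xS : L) = x) (hHm : aeval xS H ∈ m) :
    LocFin S L m := by
  classical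
  haveI := hR.1
  haveI : IsNoetherianRing S := by rw [hS]; exact isNoetherianRing_adjoin x
  let L' := (H.map (algebraMap R L)).SplittingField
  let R' := integralClosure R L'
  haveI : Module.Finite R R' := N2Lib.finite_of_isN2 (show CAlg.IsN2 R from
    NagataCompleteLib.isN2_of_ringEquiv (RingEquiv.quotientBot R) (hR.2 ⊥)) L L'
  haveI : IsFractionRing R' L' := integralClosure.isFractionRing_of_finite_extension L L'
  haveI : IsIntegrallyClosed R' := integralClosure.isIntegrallyClosedOfFiniteExtension L
  let x' : L' := algebraMap L L' (xS : L)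
  let S' := Algebra.adjoin R' ({x'} : Set L')
  have hmem : ∀ s : S, algebraMap L L' (s : L) ∈ S' := fun s => by
    have hs : (s : L) ∈ Algebra.adjoin R {x} := by rw [← hS]; exact s.2
    obtain ⟨p, hp⟩ := mem_adjoin_singleton hs
    rw [← hp, ← hxS, ← aeval_algebraMap_apply, ← aeval_map_algebraMap R' x' p]
    exact aeval_mem_adjoin_singleton R' x'
  let ι : S →+* S' := ((algebraMap L L').comp S.val.toRingHom).codRestrict S' hmem
  letI : Algebra S S' := ι.toAlgebra
  haveI : Module.Finite S S' := finite_adjoin_extension S xS ι fun s => rfl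
  haveI : IsScalarTower S S' L' := IsScalarTower.of_algebraMap_eq fun s => rfl
  refine locFin_descend (S' := S') (L' := L') m fun M hMp hMm => ?_
  haveI := hMp
  refine locFin_of_splits (isNagata_of_finite hR) x' S' rfl ⟨x', Algebra.subset_adjoin rfl⟩ rfl (H.map (algebraMap R R'))
    (hH.map _) ?_ M ?_
  · rw [Polynomial.map_map, ← IsScalarTower.algebraMap_eq, IsScalarTower.algebraMap_eq R L L', ← Polynomial.map_map]
    exact SplittingField.splits _
  · rw [aeval_map_algebraMap]
    have h1 : ι (aeval xS H) ∈ M := by
      have : aeval xS H ∈ M.comap ι := hMm.symm ▸ hHm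
      exact this
    convert h1 using 1
    refine Subtype.ext ?_
    show S'.val (aeval (⟨x', Algebra.subset_adjoin rfl⟩ : S') H) = algebraMap L L' ((aeval xS H : S) : L)
    rw [show ((aeval xS H : S) : L) = aeval (xS : L) H from (aeval_algHom_apply S.val xS H).symm, ← aeval_algebraMap_apply]
    exact (aeval_algHom_apply (S'.val.restrictScalars R) (⟨x', Algebra.subset_adjoin rfl⟩ : S') H).symm

/-- Local finiteness at any maximal ideal. -/
theorem locFin_adjoin {R L : Type u} [CommRing R] [IsDomain R] [IsIntegrallyClosed R] [Field L] [Algebra R L]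
    [IsFractionRing R L] (hR : CAlg.IsNagata R) (x : L) (m : Ideal (Algebra.adjoin R ({x} : Set L))) [m.IsMaximal] :
    LocFin (Algebra.adjoin R ({x} : Set L)) L m := by
  classical
  haveI := hR.1
  let S := Algebra.adjoin R ({x} : Set L)
  let xS : S := ⟨x, Algebra.subset_adjoin rfl⟩
  let p := m.comap (algebraMap R S)
  obtain ⟨G, hGc, hGm⟩ : ∃ G : R[X], G.leadingCoeff ∉ p ∧ aeval xS G ∈ m := by
    by_contra hcon
    simp only [not_exists, not_and] at hcon
    let F := S ⧸ m
    let f : R[X] →+* F := (Ideal.Quotient.mk m).comp (aeval xS).toRingHom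
    have hf : Function.Surjective f := fun z => by
      obtain ⟨z, rfl⟩ := Ideal.Quotient.mk_surjective z
      obtain ⟨q, hq⟩ := mem_adjoin_singleton z.2
      exact ⟨q, congrArg (Ideal.Quotient.mk m) (Subtype.ext (((aeval_algHom_apply S.val xS q).symm).trans hq) : aeval xS q = z)⟩
    have hker : ∀ q : R[X], f q = 0 → q.map (Ideal.Quotient.mk p) = 0 := fun q hq => by
      by_contra hne
      obtain ⟨q', hq', hdeg⟩ := Polynomial.mem_lifts_and_degree_eq (p := q.map (Ideal.Quotient.mk p))
        (f := Ideal.Quotient.mk p) ((Polynomial.mem_lifts _).2 ⟨q, rfl⟩)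
      refine hcon q' (fun hlc => hne ?_) ?_
      · rw [← hq']
        by_contra h0
        have h2 := leadingCoeff_ne_zero.2 h0
        rw [leadingCoeff, natDegree_eq_of_degree_eq (q := q') (by rw [hdeg, hq']), coeff_map] at h2
        exact h2 (Ideal.Quotient.eq_zero_iff_mem.2 hlc)
      · rw [← Ideal.Quotient.eq_zero_iff_mem]
        have hd : (q - q').map (Ideal.Quotient.mk p) = 0 := by rw [Polynomial.map_sub, hq', sub_self]
        have h3 : f (q - q') = 0 := by
          show Ideal.Quotient.mk m (aeval xS (q - q')) = 0
          rw [Ideal.Quotient.eq_zero_iff_mem, aeval_eq_sum_range]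
          refine Ideal.sum_mem _ fun i _ => ?_
          rw [Algebra.smul_def]
          refine Ideal.mul_mem_right _ _ ?_
          show (q - q').coeff i ∈ p
          rw [← Ideal.Quotient.eq_zero_iff_mem, ← coeff_map, hd, coeff_zero]
        rw [map_sub, hq, zero_sub, neg_eq_zero] at h3
        exact h3
    letI := Ideal.Quotient.field m
    haveI : Nontrivial (R ⧸ p) := Ideal.Quotient.nontrivial_iff.2 (inferInstance : p.IsPrime).ne_top
    let Φ : (R ⧸ p)[X] →+* F := eval₂RingHom (Ideal.Quotient.lift p ((Ideal.Quotient.mk m).comp (algebraMap R S))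
      fun a ha => Ideal.Quotient.eq_zero_iff_mem.2 ha) (Ideal.Quotient.mk m xS)
    have hΦ : ∀ q : R[X], Φ (q.map (Ideal.Quotient.mk p)) = f q := fun q => by
      show eval₂ _ _ _ = Ideal.Quotient.mk m (aeval xS q)
      rw [eval₂_map, aeval_def, hom_eval₂]
      rfl
    have hΦb : Function.Bijective Φ := ⟨(injective_iff_map_eq_zero Φ).2 fun z hz => by
      obtain ⟨q, rfl⟩ := Polynomial.map_surjective _ Ideal.Quotient.mk_surjective z
      exact hker q ((hΦ q).symm.trans hz), fun z => by
      obtain ⟨q, rfl⟩ := hf z
      exact ⟨_, hΦ q⟩⟩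
    exact Polynomial.not_isField (R ⧸ p) ((RingEquiv.ofBijective Φ hΦb).toMulEquiv.isField (Field.toIsField F))
  let c := G.leadingCoeff
  have hG0 : G ≠ 0 := fun h => hGc (by rw [h, leadingCoeff_zero]; exact p.zero_mem)
  have hdeg : 1 ≤ G.natDegree := by
    by_contra h
    rw [eq_C_of_natDegree_eq_zero (by omega : G.natDegree = 0), aeval_C] at hGm
    refine hGc ?_
    rw [leadingCoeff, (by omega : G.natDegree = 0)]
    exact hGm
  let z : L := algebraMap R L c * x
  let S0 := Algebra.adjoin R ({z} : Set L)
  have hle : S0 ≤ S := Algebra.adjoin_le (by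
    rintro _ rfl
    exact mul_mem (Subalgebra.algebraMap_mem _ _) (Algebra.subset_adjoin rfl))
  let m0 := m.comap (Subalgebra.inclusion hle)
  let zS : S0 := ⟨z, Algebra.subset_adjoin rfl⟩
  have hc0 : algebraMap R S0 c ∉ m0 := fun h => hGc h
  have hHm : aeval zS G.integralNormalization ∈ m0 := by
    show Subalgebra.inclusion hle (aeval zS G.integralNormalization) ∈ m
    rw [← aeval_algHom_apply, show Subalgebra.inclusion hle zS = algebraMap R S c * xS from Subtype.ext rfl,
      aeval_def, integralNormalization_eval₂_leadingCoeff_mul hdeg, ← aeval_def]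
    exact Ideal.mul_mem_left _ _ hGm
  haveI : m0.IsPrime := inferInstance
  obtain ⟨M, hM, hM'⟩ := locFin_of_monic hR z S0 rfl m0 G.integralNormalization (monic_integralNormalization hG0) zS rfl hHm
  obtain ⟨T, hT⟩ := hM
  refine ⟨Submodule.span S (T : Set L), Submodule.fg_span T.finite_toSet, fun y hy => ?_⟩
  -- clear denominators
  have hclear : ∀ s ∈ S, ∃ k : ℕ, algebraMap R L (c ^ k) * s ∈ S0 := fun s hs => by
    induction hs using Algebra.adjoin_induction with
    | mem s hs => obtain rfl := hs; exact ⟨1, by rw [pow_one]; exact Algebra.subset_adjoin rfl⟩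
    | algebraMap r => exact ⟨0, by rw [pow_zero, map_one, one_mul]; exact Subalgebra.algebraMap_mem _ _⟩
    | add a b _ _ ha hb =>
      obtain ⟨k, hk⟩ := ha
      obtain ⟨l, hl⟩ := hb
      refine ⟨k + l, ?_⟩
      rw [mul_add, pow_add, map_mul, mul_right_comm _ _ a, mul_assoc (algebraMap R L (c ^ k)) (algebraMap R L (c ^ l)) b]
      exact add_mem (mul_mem hk (Subalgebra.algebraMap_mem _ _)) (mul_mem (Subalgebra.algebraMap_mem _ _) hl)
    | mul a b _ _ ha hb =>
      obtain ⟨k, hk⟩ := ha
      obtain ⟨l, hl⟩ := hb
      refine ⟨k + l, ?_⟩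
      rw [pow_add, map_mul, show algebraMap R L (c ^ k) * algebraMap R L (c ^ l) * (a * b) =
        (algebraMap R L (c ^ k) * a) * (algebraMap R L (c ^ l) * b) by ring]
      exact mul_mem hk hl
  obtain ⟨P, hP, hPy⟩ := hy
  choose k hk using fun i : ℕ => hclear (P.coeff i : S) (P.coeff i).2
  let K := (Finset.range P.natDegree).sup k
  have hint : IsIntegral S0 (algebraMap R L (c ^ K) * y) := by
    let Q := P.scaleRoots (algebraMap R S (c ^ K))
    have hQ : Q.Monic := (monic_scaleRoots_iff _).2 hP
    have hQlifts : Q ∈ Polynomial.lifts (Subalgebra.inclusion hle).toRingHom := by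
      rw [Polynomial.lifts_iff_coeff_lifts]
      intro i
      rw [coeff_scaleRoots]
      by_cases hi : i < P.natDegree
      · refine ⟨⟨algebraMap R L ((c ^ K) ^ (P.natDegree - i)) * (P.coeff i : S), ?_⟩, Subtype.ext ?_⟩
        · obtain ⟨j, hj⟩ : ∃ j, K * (P.natDegree - i) = k i + j := Nat.exists_eq_add_of_le
            ((Finset.le_sup (f := k) (Finset.mem_range.2 hi)).trans (Nat.le_mul_of_pos_right K (by omega)))
          rw [← pow_mul, hj, pow_add, map_mul, mul_right_comm]
          exact mul_mem (hk i) (Subalgebra.algebraMap_mem _ _)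
        · show algebraMap R L ((c ^ K) ^ (P.natDegree - i)) * (P.coeff i : S) =
            (((P.coeff i) * (algebraMap R S (c ^ K)) ^ (P.natDegree - i) : S) : L)
          push_cast
          simp [mul_comm]
      · by_cases hi' : i = P.natDegree
        · subst hi'
          exact ⟨1, by rw [map_one, show P.coeff P.natDegree = 1 from hP, Nat.sub_self, pow_zero, mul_one]⟩
        · exact ⟨0, by rw [map_zero, coeff_eq_zero_of_natDegree_lt (by omega), zero_mul]⟩
    obtain ⟨Q0, hQ0, -, hQ0m⟩ := lifts_and_degree_eq_and_monic hQlifts hQ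
    refine ⟨Q0, hQ0m, ?_⟩
    have h := scaleRoots_aeval_eq_zero (r := algebraMap R S (c ^ K)) (show aeval y P = 0 from hPy)
    rw [show algebraMap S L (algebraMap R S (c ^ K)) = algebraMap R L (c ^ K) from rfl, aeval_def,
      show P.scaleRoots (algebraMap R S (c ^ K)) = Q0.map (Subalgebra.inclusion hle).toRingHom from hQ0.symm, eval₂_map] at h
    exact h
  obtain ⟨t, ht, hty⟩ := hM' _ hint
  rw [← hT] at hty
  refine ⟨Subalgebra.inclusion hle t * algebraMap R S (c ^ K), fun h => ?_, ?_⟩
  · refine ((inferInstance : m.IsPrime).mem_or_mem h).elim ht fun h' => hGc ?_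
    rw [map_pow] at h'
    exact (inferInstance : m.IsPrime).mem_of_pow_mem K h'
  · have e : (Subalgebra.inclusion hle t * algebraMap R S (c ^ K)) • y = t • (algebraMap R L (c ^ K) * y) := by
      show ((Subalgebra.inclusion hle t * algebraMap R S (c ^ K) : S) : L) * y = (t : L) * (algebraMap R L (c ^ K) * y)
      rw [Subalgebra.coe_mul, mul_assoc]
      rfl
    rw [e]
    generalize t • (algebraMap R L (c ^ K) * y) = w at hty ⊢
    induction hty using Submodule.span_induction with
    | mem w hw => exact Submodule.subset_span hw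
    | zero => exact zero_mem _
    | add a b _ _ ha hb => exact add_mem ha hb
    | smul d a _ ha =>
      rw [show d • a = (Subalgebra.inclusion hle d : S) • a from rfl]
      exact Submodule.smul_mem _ _ ha

/-- Finiteness of the normalization of a birational simple extension of a normal Nagata ring. -/
theorem finite_integralClosure_adjoin {R L : Type u} [CommRing R] [IsDomain R] [IsIntegrallyClosed R] [Field L]
    [Algebra R L] [IsFractionRing R L] (hR : CAlg.IsNagata R) (x : L) :
    Module.Finite (Algebra.adjoin R ({x} : Set L)) (integralClosure (Algebra.adjoin R ({x} : Set L)) L) := by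
  haveI := hR.1
  let S := Algebra.adjoin R ({x} : Set L)
  haveI : IsNoetherianRing S := isNoetherianRing_adjoin x
  haveI : IsFractionRing S L := IsFractionRing.of_field S L fun z => by
    obtain ⟨a, b, -, rfl⟩ := IsFractionRing.div_surjective R z
    exact ⟨algebraMap R S a, algebraMap R S b, rfl⟩
  obtain ⟨a, b, hb, hab⟩ := IsFractionRing.div_surjective R x
  have hb0 : algebraMap R L b ≠ 0 := IsFractionRing.to_map_ne_zero_of_mem_nonZeroDivisors hb
  have hle : Submonoid.powers b ≤ nonZeroDivisors R :=
    powers_le_nonZeroDivisors_of_noZeroDivisors (nonZeroDivisors.ne_zero hb)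
  let Rb := Localization.Away b
  letI : Algebra Rb L := IsLocalization.localizationAlgebraOfSubmonoidLe Rb L (Submonoid.powers b) (nonZeroDivisors R) hle
  haveI : IsScalarTower R Rb L :=
    IsLocalization.localization_isScalarTower_of_submonoid_le Rb L (Submonoid.powers b) (nonZeroDivisors R) hle
  haveI : IsFractionRing Rb L := IsFractionRing.isFractionRing_of_isDomain_of_isLocalization (Submonoid.powers b) Rb L
  haveI : IsDomain Rb := IsLocalization.isDomain_localization hle
  haveI : IsIntegrallyClosed Rb := isIntegrallyClosed_of_isLocalization Rb (Submonoid.powers b) hle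
  have hSle : S ≤ (IsScalarTower.toAlgHom R Rb L).range := Algebra.adjoin_le (Set.singleton_subset_iff.2 (by
    refine ⟨IsLocalization.mk' Rb a (⟨b, Submonoid.mem_powers b⟩ : Submonoid.powers b), ?_⟩
    show algebraMap Rb L _ = x
    rw [← hab, eq_div_iff hb0, IsScalarTower.algebraMap_apply R Rb L, IsScalarTower.algebraMap_apply R Rb L a,
      ← map_mul, IsLocalization.mk'_spec]))
  let e := AlgEquiv.ofInjective (IsScalarTower.toAlgHom R Rb L) (IsFractionRing.injective Rb L)
  let g : S →+* Rb := e.symm.toRingHom.comp (Subalgebra.inclusion hSle).toRingHom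
  have hg : (algebraMap Rb L).comp g = algebraMap S L := RingHom.ext fun s => by
    show algebraMap Rb L (e.symm (Subalgebra.inclusion hSle s)) = (s : L)
    exact congrArg Subtype.val (e.apply_symm_apply (Subalgebra.inclusion hSle s))
  refine finite_of_locFin (f := algebraMap R S b)
    (fun h => hb0 (congrArg Subtype.val h)) (fun y hy => ?_) fun m hm => haveI := hm; locFin_adjoin hR x m
  obtain ⟨P, hP, hPy⟩ := hy
  have hint : IsIntegral Rb y := ⟨P.map g, hP.map g, by rw [eval₂_map, hg]; exact hPy⟩
  obtain ⟨w, hw⟩ := IsIntegrallyClosed.isIntegral_iff.1 hint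
  obtain ⟨r, ⟨_, n, rfl⟩, rfl⟩ := IsLocalization.exists_mk'_eq (Submonoid.powers b) w
  refine ⟨n, algebraMap R S r, ?_⟩
  rw [← map_pow, ← IsScalarTower.algebraMap_apply, ← IsScalarTower.algebraMap_apply, ← hw,
    IsScalarTower.algebraMap_apply R Rb L, IsScalarTower.algebraMap_apply R Rb L r, ← map_mul]
  exact congrArg _ (IsLocalization.mk'_spec' Rb r _)

end Groth.Agent.NagataLib
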